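import Groth.Agent.FMK.K884.DualP
import Groth.Agent.Cohder.RelPCMon
import Groth.Agent.Dcoh.LTMod
import Groth.Agent.Dcoh.DualFLF
import Groth.Agent.Dcoh.MonAdj
import Groth.Agent.PerfB.FlatPull
import Groth.Agent.PerfC.RHomD

/-!
# Flat modules in the derived category

* `nonempty_tensor_inD`: `A[0] ⊗ B[0] ≅ (A ⊗ B)[0]` for `A` flat;
* `nonempty_lpull_inD`: `Lf^*(A[0]) ≅ (f^*A)[0]` for `f` flat;
* `isDual_sheafHom`: `Hom(E, O_X)[0]` is the dual of `E[0]` for `E` finite locally free.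
-/

set_option autoImplicit false

universe u

open CategoryTheory CategoryTheory.Limits MonoidalCategory AlgebraicGeometry

attribute [local instance] HasDerivedCategory.standard

open scoped Groth.Agent.Dcoh.MonCat Groth.Agent.Dcoh.ModD

namespace K884.Flt

open Groth.Agent.Dcoh Groth.Agent.Cohder.RelPCMon

variable {X Y : Scheme.{u}}

/-- `M[0]` as the value of the localization functor. -/
noncomputable def sglIso (M : X.Modules) : DCoh.toD X (sgl M) ≅ DCoh.inD X M :=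
  ((SingleFunctors.evaluation _ _ 0).mapIso (DerivedCategory.singleFunctorsPostcompQIso X.Modules)).app M

lemma isKFlat_sgl {A : X.Modules} (hA : FlatMod.IsFlat A) : DCoh.IsKFlat (sgl A) :=
  KFlatMod.isKFlat_single _ hA 0

/-- `A[0] ⊗ B[0] ≅ (A ⊗ B)[0]` for `A` flat. -/
theorem nonempty_tensor_inD (A B : X.Modules) (hA : FlatMod.IsFlat A) :
    Nonempty (DCoh.inD X A ⊗ DCoh.inD X B ≅ DCoh.inD X (CohB1.tensorMod A B)) := by
  have h1 := LTMod.hasLTensorMod B
  have h2 : DCoh.HasLTensorCx (sgl B) := ModTens.hasLTensorCx _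
  obtain ⟨e⟩ := nonempty_mod B (DCoh.inD X A)
  let e1 : DCoh.inD X A ⊗ DCoh.inD X B ≅ (DCoh.LTensorCx (sgl B)).obj (DCoh.inD X A) :=
    whiskerLeftIso _ (sglIso B).symm ≪≫ ((Calc.ltIso (sgl B)).app _).symm
  let e2 : (DCoh.LTensorMod B).obj (DCoh.inD X A) ≅
      DCoh.toD X (((DCoh.tensorRightMod B).mapHomologicalComplex (ComplexShape.up ℤ)).obj (sgl A)) :=
    (DCoh.LTensorMod B).mapIso (sglIso A).symm ≪≫ LTMod.isoQ B (isKFlat_sgl hA)
  let e3 : ((DCoh.tensorRightMod B).mapHomologicalComplex (ComplexShape.up ℤ)).obj (sgl A) ≅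
      sgl (CohB1.tensorMod A B) :=
    (HomologicalComplex.singleMapHomologicalComplex (DCoh.tensorRightMod B) (ComplexShape.up ℤ) 0).app A
  exact ⟨e1 ≪≫ e.symm ≪≫ e2 ≪≫ DerivedCategory.Q.mapIso e3 ≪≫ sglIso _⟩

/-- `Lf^*(A[0]) ≅ (f^*A)[0]` for `f` flat. -/
theorem nonempty_lpull_inD (f : X ⟶ Y) [Flat f] [DCoh.HasLpull f] (A : Y.Modules) :
    Nonempty ((DCoh.Lpull f).obj (DCoh.inD Y A) ≅ DCoh.inD X ((Scheme.Modules.pullback f).obj A)) :=
  ⟨(Groth.Agent.PerfB.FlatPull.lpullIso f).app _ ≪≫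
    ((Scheme.Modules.pullback f).mapDerivedCategorySingleFunctor 0).app A⟩

/-- `Hom(E, O_X)` is dual to `E`. -/
theorem nonempty_dual_iso {E : X.Modules} [DCoh.HasSheafHom E] (E' : X.Modules) [ExactPairing E E'] :
    Nonempty (E' ≅ (DCoh.sheafHom E).obj (Coh.structureModule X)) :=
  MonAdj.nonempty_dual_unit (K := E) E' ⟨TMod.braidIso E⟩ (DCoh.sheafHomAdj E)

open Groth.Agent.PerfB.MinModel in
/-- The dual of a finite locally free module, in the derived category. -/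
theorem isDual_inD {E : X.Modules} (hE : FlatMod.IsFinLocFree E) (E' : X.Modules)
    [hp : ExactPairing E E'] : DualP.IsDual (DCoh.inD X E) (DCoh.inD X E') := by
  have hz : ∀ n : ℤ, n ≠ 0 → IsZero ((sgl E).X n) := fun n hn =>
    HomologicalComplex.isZero_single_obj_X _ _ _ _ hn
  have hL0 : FlatMod.freeMod X 0 = FlatMod.freeMod X 0 := rfl
  let L : ℤ → X.Modules := fun n => if n = 0 then E' else FlatMod.freeMod X 0
  have hL : ∀ n : ℤ, n ≠ 0 → L n = FlatMod.freeMod X 0 := fun n hn => if_neg hn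
  have hL' : L 0 = E' := if_pos rfl
  have e : ∀ n, Nonempty (ExactPairing ((sgl E).X n) (L n)) := by
    intro n
    by_cases hn : n = 0
    · subst hn
      rw [hL']
      exact ⟨exactPairingCongrLeft (HomologicalComplex.singleObjXSelf (ComplexShape.up ℤ) 0 E)⟩
    · rw [hL n hn]
      let _ := MonInst.freePairing X 0
      exact ⟨exactPairingCongrLeft ((hz n hn).iso (isZero_freeMod_zero X))⟩
  obtain ⟨K', ψ, ⟨hK'⟩⟩ := DualCx.exists_exactPairing (sgl E) 0 0 (fun n hn => hz n (by lia))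
    (fun n hn => hz n (by lia)) L (fun n => (e n).some)
  have hK'z : ∀ n : ℤ, n ≠ 0 → IsZero (K'.X n) := fun n hn => by
    have h1 := ψ (-n)
    rw [neg_neg, hL (-n) (by lia)] at h1
    exact (isZero_freeMod_zero X).of_iso h1
  have h0 : Nonempty (K'.X 0 ≅ E') := by
    have h1 := ψ 0
    rw [neg_zero, hL'] at h1
    exact ⟨h1⟩
  obtain ⟨e0⟩ := h0
  have : K'.IsStrictlyGE 0 := (CochainComplex.isStrictlyGE_iff _ _).2 fun n hn => hK'z n (by lia)
  have : K'.IsStrictlyLE 0 := (CochainComplex.isStrictlyLE_iff _ _).2 fun n hn => hK'z n (by lia)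
  obtain ⟨M, ⟨eM⟩⟩ := CochainComplex.exists_iso_single K' 0
  have eM0 : M ≅ E' := (HomologicalComplex.singleObjXSelf (ComplexShape.up ℤ) 0 M).symm ≪≫
    ((HomologicalComplex.eval X.Modules (ComplexShape.up ℤ) 0).mapIso eM).symm ≪≫ e0
  have eK : K' ≅ sgl E' := eM ≪≫ (HomologicalComplex.single X.Modules (ComplexShape.up ℤ) 0).mapIso eM0
  have hflat : FlatMod.IsFlat E := Spread.isFlat_of_isFinLocFree hE
  have hflat' : FlatMod.IsFlat E' := Spread.isFlat_of_isFinLocFree (DualFLF.isFinLocFree_dual hE E')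
  have h1 : ModD.KF X (sgl E) := isKFlat_sgl hflat
  have h2 : ModD.KF X K' := KFlatMod.isKFlat_of_iso eK.symm (isKFlat_sgl hflat')
  have h3 : DualP.IsDual (DCoh.toD X (sgl E)) (DCoh.toD X K') :=
    ⟨DualMap.pairingQ (ModD.KF X) (sgl E) K' h1 h2⟩
  exact (h3.of_iso_left (sglIso E)).of_iso_right (DerivedCategory.Q.mapIso eK ≪≫ sglIso E')

/-- `Hom(E, O_X)` is the dual of `E`. -/
theorem isDual_sheafHom {E : X.Modules} (hE : FlatMod.IsFinLocFree E) [DCoh.HasSheafHom E] :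
    DualP.IsDual (DCoh.inD X E)
      (DCoh.inD X ((DCoh.sheafHom E).obj (Coh.structureModule X))) := by
  obtain ⟨E', ⟨h⟩⟩ := DualFLF.exists_exactPairing hE
  obtain ⟨e⟩ := nonempty_dual_iso (E := E) E'
  exact (isDual_inD hE E').of_iso_right ((DerivedCategory.singleFunctor X.Modules 0).mapIso e)

lemma isFinLocFree_sheafHom {E : X.Modules} (hE : FlatMod.IsFinLocFree E) [DCoh.HasSheafHom E] :
    FlatMod.IsFinLocFree ((DCoh.sheafHom E).obj (Coh.structureModule X)) := by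
  obtain ⟨E', ⟨h⟩⟩ := DualFLF.exists_exactPairing hE
  obtain ⟨e⟩ := nonempty_dual_iso (E := E) E'
  exact LocalD.isFinLocFree_of_iso e (DualFLF.isFinLocFree_dual hE E')

end K884.Flt
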