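import Groth.Agent.PerfB.SecGamma
import Groth.Agent.PerfB.StructFlat
import Groth.Agent.PerfA.UnitOU
import Groth.Agent.Dcoh.DerPush2
import Groth.Agent.Dcoh.Spread

/-!
# `RΓ(Y, Rf_* K) ≅ RΓ(X, K)` for unbounded complexes

`RΓ(X, -)` is computed by weakly K-injective complexes (in the sense of `Dcoh.WKInj`, with respect to K-flat
complexes), and `f_*` preserves these.
-/

set_option autoImplicit false

universe u

open CategoryTheory CategoryTheory.Limits AlgebraicGeometry Opposite TopologicalSpace Pretriangulated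

attribute [local instance] HasDerivedCategory.standard

namespace K884.RGam

open Groth.Agent.PerfA.ExtZero Groth.Agent.PerfA.Hyp0 Groth.Agent.PerfA.Hyp1
  Groth.Agent.Dcoh.DerAbs Groth.Agent.Dcoh.DerHo Groth.Agent.Dcoh.DerAdj
  Groth.Agent.Dcoh.DerComp Groth.Agent.Dcoh.DerSch Groth.Agent.Dcoh.KFlat
  Groth.Agent.Dcoh.WKInj Groth.Agent.Dcoh.DerPull Groth.Agent.PerfB.SecGamma

variable (X : Scheme.{u})

/-- `O_X[-m]` is K-flat. -/
lemma isKFlat_single_OU (m : ℤ) :
    DCoh.IsKFlat ((HomologicalComplex.single X.Modules (ComplexShape.up ℤ) m).obj (OU (⊤ : X.Opens))) := by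
  have h1 : DCoh.IsKFlat ((HomologicalComplex.single X.Modules (ComplexShape.up ℤ) m).obj
      (Coh.structureModule X)) :=
    Groth.Agent.Dcoh.KFlatMod.isKFlat_single _
      (Groth.Agent.Dcoh.Spread.isFlat_of_isFinLocFree
        Groth.Agent.PerfB.StructFlat.isFinLocFree_structure) m
  exact Groth.Agent.Dcoh.KFlatMod.isKFlat_of_iso
    ((HomologicalComplex.single X.Modules (ComplexShape.up ℤ) m).mapIso
      (Groth.Agent.PerfA.UnitOU.unitIsoOU X)) h1

variable {X}

/-- Null-homotopic cocycles are coboundaries. -/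
lemma exists_of_quotient_map_eq_zero {C : Type*} [Category C] [Abelian C] {G : C}
    {I : CochainComplex C ℤ} {m n : ℤ}
    (hn : n + 1 = m) (z : G ⟶ I.X m) (hz : z ≫ I.d m (m + 1) = 0)
    (h1 : (HomotopyCategory.quotient C (.up ℤ)).map (cocycleHom z hz) = 0) :
    ∃ y : G ⟶ I.X n, y ≫ I.d n m = z := by
  have h2 : Homotopy (cocycleHom z hz) 0 := HomotopyCategory.homotopyOfEq _ _ (by
    rw [h1, Functor.map_zero])
  have h3 := (CochainComplex.HomComplex.Cochain.equivHomotopy
    (F := (CochainComplex.singleFunctor C m).obj G) (cocycleHom z hz) 0) h2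
  obtain ⟨α, hα⟩ := h3
  obtain ⟨y, rfl⟩ := CochainComplex.HomComplex.Cochain.fromSingleMk_surjective α n (by lia)
  refine ⟨y, ?_⟩
  rw [CochainComplex.HomComplex.Cochain.δ_fromSingleMk y _ 0 m (by lia),
    CochainComplex.HomComplex.Cochain.ofHom_zero, add_zero, ofHom_cocycleHom] at hα
  exact ((CochainComplex.HomComplex.Cochain.fromSingleEquiv (add_zero m)).symm.injective hα).symm

/-- `Γ(X, J)` is acyclic for `J` acyclic and weakly K-injective. -/
lemma acyclic_gamma (J : HomotopyCategory X.Modules (ComplexShape.up ℤ)) (hJ : wkInj X J)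
    (hJ' : HomotopyCategory.subcategoryAcyclic X.Modules J) :
    HomotopyCategory.subcategoryAcyclic AddCommGrpCat.{u}
      (((DCoh.gammaAb X).mapHomotopyCategory (ComplexShape.up ℤ)).obj J) := by
  change HomotopyCategory.subcategoryAcyclic AddCommGrpCat.{u}
    ((HomotopyCategory.quotient _ _).obj (gammaCx X J.as))
  rw [HomotopyCategory.quotient_obj_mem_subcategoryAcyclic_iff_acyclic]
  intro j
  rw [HomologicalComplex.exactAt_iff' _ (j - 1) j (j + 1) (by simp) (by simp)]
  rw [ShortComplex.ab_exact_iff]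
  intro a ha
  change Γ(J.as.X j, ⊤) at a
  change (J.as.d j (j + 1)).app ⊤ a = 0 at ha
  change ∃ b : Γ(J.as.X (j - 1), ⊤), (J.as.d (j - 1) j).app ⊤ b = a
  have hz : desc a ≫ J.as.d j (j + 1) = 0 := by
    rw [desc_comp, ha]
    exact desc_zero
  have h0 : (HomotopyCategory.quotient X.Modules (.up ℤ)).map (cocycleHom (desc a) hz) = 0 :=
    (kFlatCls X).eq_zero hJ hJ' (isKFlat_single_OU X j) _
  obtain ⟨y, hy⟩ := exists_of_quotient_map_eq_zero (n := j - 1) (by lia) _ hz h0
  obtain ⟨b, rfl⟩ := desc_surjective y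
  refine ⟨b, ?_⟩
  rw [desc_comp] at hy
  exact desc_injective hy

variable (X) in
/-- `RΓ` is computed by weakly K-injective complexes. -/
lemma gammaData : RightData (𝟭 _) (qis X.Modules) (DCoh.gammaKh X) (wkInj X) where
  full := inferInstance
  essSurj := inferInstance
  frac := (rightData (hasKInj X) (DCoh.gammaKh X)).frac
  respectsIso := inferInstance
  map_eq f g hfg := by
    obtain rfl : f = g := hfg
    rfl
  exists_res X' := by
    obtain ⟨I, f, hI, hf⟩ := (rightData (hasKInj X) (DCoh.gammaKh X)).exists_res X'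
    exact ⟨I, f, kInj_le _ _ hI, hf⟩
  isIso_map {K L} w hX hY hw := by
    obtain ⟨C, g, k, hT⟩ := Pretriangulated.distinguished_cocone_triangle w
    have hC : HomotopyCategory.subcategoryAcyclic X.Modules C := (qis_iff_of_distTriang hT).1 hw
    have := (kFlatCls X).wInj_isTriangulated
    have hC' : wkInj X C := (wkInj X).ext_of_isTriangulatedClosed₃ _ hT hX hY
    have hC2 := acyclic_gamma C hC' hC
    have hT2 := ((DCoh.gammaAb X).mapHomotopyCategory (ComplexShape.up ℤ)).map_distinguished _ hT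
    have hw2 : qis AddCommGrpCat.{u}
        (((DCoh.gammaAb X).mapHomotopyCategory (ComplexShape.up ℤ)).map w) :=
      (qis_iff_of_distTriang hT2).2 hC2
    exact Localization.inverts DerivedCategory.Qh (qis AddCommGrpCat.{u}) _ hw2

/-- The unit of `RΓ`. -/
noncomputable abbrev gammaUnit (X : Scheme.{u}) [DCoh.HasRΓ X] :
    DCoh.gammaKh X ⟶ DerivedCategory.Qh ⋙ DCoh.RΓ X :=
  (DCoh.gammaKh X).totalRightDerivedUnit DerivedCategory.Qh (qis X.Modules)

lemma isIso_gammaUnit_app_of_wkInj [DCoh.HasRΓ X]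
    (J : HomotopyCategory X.Modules (ComplexShape.up ℤ)) (hJ : wkInj X J) :
    IsIso ((gammaUnit X).app J) :=
  (gammaData X).isIso_app (W₀ := qis X.Modules) (DerivedCategory.Qh.leftUnitor)
    (fun _ hw ↦ hw) (DCoh.RΓ X) (gammaUnit X) J hJ

/-- `Γ(Y, f_* M) = Γ(X, M)`. -/
noncomputable def pushGamma {X Y : Scheme.{u}} (f : X ⟶ Y) :
    Scheme.Modules.pushforward f ⋙ DCoh.gammaAb Y ≅ DCoh.gammaAb X :=
  NatIso.ofComponents (fun _ => Iso.refl _) (fun _ =>
    (Category.comp_id _).trans (Category.id_comp _).symm)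

/-- `RΓ(Y, Rf_* K) ≅ RΓ(X, K)`. -/
theorem nonempty_rpush_RΓ {X Y : Scheme.{u}} (f : X ⟶ Y) [DCoh.HasRpush f] [DCoh.HasRΓ X]
    [DCoh.HasRΓ Y] : Nonempty (DCoh.Rpush f ⋙ DCoh.RΓ Y ≅ DCoh.RΓ X) :=
  ⟨(nonempty_compIso_right_of_isIso (pushGamma f) (hasKInj X)
    (DCoh.Rpush f) (rpushUnit f) (DCoh.RΓ Y) (gammaUnit Y)
    (fun I hI ↦ isIso_gammaUnit_app_of_wkInj _ (wkInj_pushforward f _
      (kInj_le _ _ (kInj_quotient_obj I hI))))
    (DCoh.RΓ X) (gammaUnit X)).choose⟩

lemma hasRΓ (X : Scheme.{u}) : DCoh.HasRΓ X :=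
  hasRightDerivedFunctor (hasKInj X) (DCoh.gammaKh X)

end K884.RGam
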