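import Groth.Agent.FMK.K884.RGam
import Groth.Agent.PerfB.AffHD
import Groth.Agent.PerfA.QCohD
import Groth.Agent.PerfA.GenPull

/-!
# `H^i(RΓ(X, K)) = 0` in terms of maps `O_X[-i] ⟶ K`

* `isZero_RΓ_iff`: `H^i(RΓ(X, K)) = 0` iff every `P i ⊤ ⟶ K` is zero (`K` arbitrary);
* `isZero_RΓ_iff_HD`: on an affine scheme, for `K ∈ D_QCoh`, iff `H^i(K) = 0`.
-/

set_option autoImplicit false

universe u

open CategoryTheory CategoryTheory.Limits AlgebraicGeometry Opposite TopologicalSpace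

attribute [local instance] HasDerivedCategory.standard

namespace K884.HypG

open Groth.Agent.PerfA.ExtZero Groth.Agent.PerfA.Hyp0 Groth.Agent.PerfA.Hyp1
  Groth.Agent.Dcoh.DerComp Groth.Agent.Dcoh.DerHo Groth.Agent.Dcoh.DerSch
  Groth.Agent.PerfB.SecGamma

variable {X : Scheme.{u}}

/-- Every object is represented by a K-injective complex. -/
lemma exists_kInj_iso (K : DCoh.D X) :
    ∃ (I : CochainComplex X.Modules ℤ) (_ : I.IsKInjective), Nonempty (K ≅ DerivedCategory.Q.obj I) := by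
  obtain ⟨I, f, hI, hf⟩ := hasKInj X (DerivedCategory.Q.objPreimage K)
  have hfQ : IsIso (DerivedCategory.Q.map f) := by
    rw [DerivedCategory.isIso_Q_map_iff_quasiIso]
    exact hf
  exact ⟨I, hI, ⟨(DerivedCategory.Q.objObjPreimageIso K).symm ≪≫ asIso (DerivedCategory.Q.map f)⟩⟩

lemma isZero_iff_exactAt [DCoh.HasRΓ X] {K : DCoh.D X} {I : CochainComplex X.Modules ℤ}
    (hI : I.IsKInjective) (e : K ≅ DerivedCategory.Q.obj I) (i : ℤ) :
    IsZero ((DerivedCategory.homologyFunctor AddCommGrpCat.{u} i).obj ((DCoh.RΓ X).obj K)) ↔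
      (gammaCx X I).ExactAt i := by
  obtain ⟨e'⟩ := nonempty_RΓIso X I hI
  rw [HomologicalComplex.exactAt_iff_isZero_homology]
  exact ((DerivedCategory.homologyFunctor AddCommGrpCat.{u} i).mapIso ((DCoh.RΓ X).mapIso e ≪≫ e') ≪≫
    (DerivedCategory.homologyFunctorFactors AddCommGrpCat.{u} i).app _).isZero_iff

/-- `H^i(RΓ(X, K)) = 0` iff every map `O_X[-i] ⟶ K` is zero. -/
theorem isZero_RΓ_iff [DCoh.HasRΓ X] (K : DCoh.D X) (i : ℤ) :
    IsZero ((DerivedCategory.homologyFunctor AddCommGrpCat.{u} i).obj ((DCoh.RΓ X).obj K)) ↔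
      ∀ φ : P i (⊤ : X.Opens) ⟶ K, φ = 0 := by
  obtain ⟨I, hI, ⟨e⟩⟩ := exists_kInj_iso K
  rw [isZero_iff_exactAt hI e i]
  have key : (∀ φ : P i (⊤ : X.Opens) ⟶ K, φ = 0) ↔
      ∀ φ : P i (⊤ : X.Opens) ⟶ DerivedCategory.Q.obj I, φ = 0 := by
    constructor
    · intro h φ
      have := h (φ ≫ e.inv)
      rwa [← cancel_mono e.inv, zero_comp]
    · intro h φ
      have := h (φ ≫ e.hom)
      rwa [← cancel_mono e.hom, zero_comp]
  rw [key]
  constructor
  · intro hex φ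
    obtain ⟨z, hz, rfl⟩ := exists_cocycle_of_isKInjective φ
    obtain ⟨a, rfl⟩ := desc_surjective z
    have ha : (I.d i (i + 1)).app ⊤ a = 0 := by
      rw [desc_comp] at hz
      exact desc_injective (hz.trans desc_zero.symm)
    obtain ⟨b, hb⟩ := exists_section_of_exactAt I (i - 1) i (i + 1) (by ring) rfl hex a ha
    refine ofCocycle_eq_zero (n := i - 1) (by lia) _ _ (desc (M := I.X (i - 1)) b) ?_
    rw [desc_comp]
    congr 1
  · intro h
    rw [HomologicalComplex.exactAt_iff' _ (i - 1) i (i + 1) (by simp) (by simp)]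
    rw [ShortComplex.ab_exact_iff]
    intro a ha
    change Γ(I.X i, ⊤) at a
    change (I.d i (i + 1)).app ⊤ a = 0 at ha
    change ∃ b : Γ(I.X (i - 1), ⊤), (I.d (i - 1) i).app ⊤ b = a
    have hz : desc a ≫ I.d i (i + 1) = 0 := by
      rw [desc_comp, ha]
      exact desc_zero
    obtain ⟨y, hy⟩ := exists_of_ofCocycle_eq_zero (n := i - 1) (by lia) _ hz (h _)
    obtain ⟨b, rfl⟩ := desc_surjective y
    refine ⟨b, ?_⟩
    rw [desc_comp] at hy
    exact desc_injective hy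

/-- On an affine scheme, for `K ∈ D_QCoh`, `H^i(RΓ(X, K)) = 0` iff `H^i(K) = 0`. -/
theorem isZero_RΓ_iff_HD [DCoh.HasRΓ X] [IsAffine X] (K : DCoh.D X) (hK : DCoh.IsQCohD K) (i : ℤ) :
    IsZero ((DerivedCategory.homologyFunctor AddCommGrpCat.{u} i).obj ((DCoh.RΓ X).obj K)) ↔
      IsZero (DCoh.HD K i) := by
  have hb := Groth.Agent.PerfB.AffHD.toHD_bijective hK (isAffineOpen_top X) i
  rw [isZero_RΓ_iff]
  constructor
  · intro h
    refine Groth.Agent.PerfA.GenPull.isZero_of_affine_sections _ (hK i)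
      (fun x => ⟨⊤, isAffineOpen_top X, trivial, fun s => ?_⟩)
    obtain ⟨φ, rfl⟩ := hb.2 s
    rw [h φ, toHD_zero]
  · intro h φ
    apply hb.1
    rw [toHD_zero]
    have : (𝟙 (DCoh.HD K i)) = 0 := h.eq_of_src _ _
    have h2 := congrArg (fun f : DCoh.HD K i ⟶ DCoh.HD K i => f.app ⊤ (toHD φ)) this
    exact h2

end K884.HypG
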