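import Groth.Agent.Dual.H306.BCLeft
import Groth.Agent.Dcoh.BCFrozen1058
import Groth.Agent.FMK.K884.HypG
import Groth.Agent.S0998
import Groth.Agent.S1054

/-!
# Base change along a flat quasi-compact quasi-separated morphism, and fibre cohomology
-/

set_option autoImplicit false

universe u

open CategoryTheory CategoryTheory.Limits AlgebraicGeometry

attribute [local instance] HasDerivedCategory.standard

namespace K884.BCh

open Groth.Agent.Dcoh.DerSch

/-- `Lg^* Rf_* K ≅ Rf'_* Lg'^* K` for `f` flat, quasi-compact and quasi-separated and any `g`. -/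
theorem nonempty_bc {X S S' : Scheme.{u}} (f : X ⟶ S) (g : S' ⟶ S) [QuasiCompact f]
    [QuasiSeparated f] [Flat f] [DCoh.HasRpush f] [DCoh.HasLpull g]
    [DCoh.HasRpush (pullback.snd f g)] [DCoh.HasLpull (pullback.fst f g)]
    (K : DCoh.D X) (hK : DCoh.IsQCohD K) :
    Nonempty ((DCoh.Lpull g).obj ((DCoh.Rpush f).obj K) ≅
      (DCoh.Rpush (pullback.snd f g)).obj ((DCoh.Lpull (pullback.fst f g)).obj K)) := by
  have h1 := hasRpush g
  have h2 := hasRpush (pullback.fst f g)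
  obtain ⟨e, he⟩ := Groth.Agent.Dcoh.BCFrozen1058.main f g (Groth.Agent.Dcoh.DerPull.lpullAdj g)
    (Groth.Agent.Dcoh.DerPull.lpullAdj (pullback.fst f g))
  have := he K (Groth.Agent.Dual.H306.BCLeft.bc_flat_left (IsPullback.of_hasPullback f g) K hK)
  exact ⟨asIso (DCoh.baseChangeApp (Groth.Agent.Dcoh.DerPull.lpullAdj g)
    (Groth.Agent.Dcoh.DerPull.lpullAdj (pullback.fst f g)) e K)⟩

/-- Cohomology of the fibre: for `f` flat, quasi-compact and quasi-separated, `g : T ⟶ S` with `T` affine,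
`H^i(RΓ(X_T, Lj^* K)) = 0` iff `H^i(Lg^* Rf_* K) = 0`. -/
theorem isZero_RΓ_fibre_iff {X S T : Scheme.{u}} (f : X ⟶ S) (g : T ⟶ S) [QuasiCompact f]
    [QuasiSeparated f] [Flat f] [IsAffine T] [DCoh.HasRpush f] [DCoh.HasLpull g]
    [DCoh.HasLpull (pullback.fst f g)] [DCoh.HasRΓ (pullback f g)]
    (K : DCoh.D X) (hK : DCoh.IsQCohD K) (i : ℤ) :
    IsZero ((DerivedCategory.homologyFunctor AddCommGrpCat.{u} i).obj
      ((DCoh.RΓ (pullback f g)).obj ((DCoh.Lpull (pullback.fst f g)).obj K))) ↔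
    IsZero (DCoh.HD ((DCoh.Lpull g).obj ((DCoh.Rpush f).obj K)) i) := by
  have h1 := hasRpush (pullback.snd f g)
  have h2 := RGam.hasRΓ T
  obtain ⟨e⟩ := nonempty_bc f g K hK
  obtain ⟨r⟩ := RGam.nonempty_rpush_RΓ (pullback.snd f g)
  have hq : DCoh.IsQCohD ((DCoh.Lpull (pullback.fst f g)).obj K) :=
    Groth.Agent.S1054.result _ K hK
  have hq' : DCoh.IsQCohD ((DCoh.Rpush (pullback.snd f g)).obj
      ((DCoh.Lpull (pullback.fst f g)).obj K)) :=
    Groth.Agent.S0998.result (pullback.snd f g) _ hq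
  rw [((DerivedCategory.homologyFunctor _ i).mapIso (r.app _)).symm.isZero_iff,
    ((DerivedCategory.homologyFunctor _ i).mapIso e).isZero_iff]
  exact HypG.isZero_RΓ_iff_HD _ hq' i

end K884.BCh
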