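import Groth.Agent.Dcoh.ProjD182
import Groth.Agent.Dcoh.DualX
import Groth.Agent.Dcoh.PerfDual
import Groth.Agent.FMK.K884.RGam

/-!
# The exchange isomorphism for kernel functors

Calculus in the monoidal category `D(O_X)` (`open scoped Groth.Agent.Dcoh.MonCat Groth.Agent.Dcoh.ModD`):
projection formula for perfect objects, and
`RΓ(X, Rp_*(Lq^* F ⊗ P) ⊗ E) ≅ RΓ(Y, Rq_*(Lp^* E ⊗ P) ⊗ F)` for `E`, `F` perfect and arbitrary morphisms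
`p : Z ⟶ X`, `q : Z ⟶ Y`.
-/

set_option autoImplicit false

universe u

open CategoryTheory CategoryTheory.Limits MonoidalCategory AlgebraicGeometry

attribute [local instance] HasDerivedCategory.standard

open scoped Groth.Agent.Dcoh.MonCat Groth.Agent.Dcoh.ModD

namespace K884.Calc

open Groth.Agent.Dcoh

variable {X Y Z : Scheme.{u}}

/-- The monoidal structure on `Lf^*`. -/
@[instance_reducible]
noncomputable def lpullMon (f : X ⟶ Y) [DCoh.HasLpull f] : (DCoh.Lpull f).Monoidal :=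
  letI := MonPull.monPull f
  MonLpull182.lpullMonoidal f

/-- `K ⊗ L ≅ L ⊗ K`. -/
theorem nonempty_braid (K L : DCoh.D X) : Nonempty (K ⊗ L ≅ L ⊗ K) := by
  obtain ⟨e⟩ := MonSymm293.weakSymm (X := X) K
  exact ⟨e.app L⟩

/-- `- ⊗ᴸ E` is `- ⊗ Q E`. -/
noncomputable abbrev ltIso (E : CochainComplex X.Modules ℤ) [DCoh.HasLTensorCx E] :
    DCoh.LTensorCx E ≅ tensorRight (DCoh.toD X E) :=
  ModTens.LTensorCxIso E

/-- Projection formula for perfect objects. -/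
theorem nonempty_proj (f : X ⟶ Y) [DCoh.HasRpush f] [DCoh.HasLpull f] (K : DCoh.D Y)
    (hK : DCoh.IsPerfect K) :
    Nonempty (DCoh.Rpush f ⋙ tensorRight K ≅ tensorRight ((DCoh.Lpull f).obj K) ⋙ DCoh.Rpush f) := by
  let _ := lpullMon f
  obtain ⟨K', -, ⟨h⟩⟩ := PerfDual.exists_exactPairing K hK
  exact MonLpull182.nonempty_proj MonSymm293.weakSymm MonSymm293.weakSymm (DCoh.Lpull f)
    (DCoh.Rpush f) (DerPull.lpullAdj f) K K'

/-- The exchange isomorphism, monoidal form. -/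
theorem nonempty_exch (p : Z ⟶ X) (q : Z ⟶ Y) [DCoh.HasRpush p] [DCoh.HasRpush q] [DCoh.HasLpull p]
    [DCoh.HasLpull q] [DCoh.HasRΓ X] [DCoh.HasRΓ Y] (P : DCoh.D Z) (E : DCoh.D X)
    (hE : DCoh.IsPerfect E) (F : DCoh.D Y) (hF : DCoh.IsPerfect F) :
    Nonempty ((DCoh.RΓ X).obj ((DCoh.Rpush p).obj ((DCoh.Lpull q).obj F ⊗ P) ⊗ E) ≅
      (DCoh.RΓ Y).obj ((DCoh.Rpush q).obj ((DCoh.Lpull p).obj E ⊗ P) ⊗ F)) := by
  have hZ := RGam.hasRΓ Z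
  obtain ⟨a⟩ := nonempty_proj p E hE
  obtain ⟨b⟩ := nonempty_proj q F hF
  obtain ⟨c⟩ := RGam.nonempty_rpush_RΓ p
  obtain ⟨d⟩ := RGam.nonempty_rpush_RΓ q
  obtain ⟨s1⟩ := nonempty_braid ((DCoh.Lpull q).obj F ⊗ P) ((DCoh.Lpull p).obj E)
  obtain ⟨s2⟩ := nonempty_braid ((DCoh.Lpull q).obj F) P
  exact ⟨(DCoh.RΓ X).mapIso (a.app _) ≪≫ c.app _ ≪≫ (DCoh.RΓ Z).mapIso
    (s1 ≪≫ whiskerLeftIso _ s2 ≪≫ (α_ _ _ _).symm) ≪≫ (d.app _).symm ≪≫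
    (DCoh.RΓ Y).mapIso (b.app _).symm⟩

/-- The exchange isomorphism. -/
theorem nonempty_exchCx (p : Z ⟶ X) (q : Z ⟶ Y) [DCoh.HasRpush p] [DCoh.HasRpush q] [DCoh.HasLpull p]
    [DCoh.HasLpull q] [DCoh.HasRΓ X] [DCoh.HasRΓ Y] (P : CochainComplex Z.Modules ℤ)
    [DCoh.HasLTensorCx P] (E : CochainComplex X.Modules ℤ) [DCoh.HasLTensorCx E]
    (hE : DCoh.IsPerfect (DCoh.toD X E)) (F : CochainComplex Y.Modules ℤ) [DCoh.HasLTensorCx F]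
    (hF : DCoh.IsPerfect (DCoh.toD Y F)) :
    Nonempty ((DCoh.RΓ X).obj ((DCoh.LTensorCx E).obj ((DCoh.Rpush p).obj
        ((DCoh.LTensorCx P).obj ((DCoh.Lpull q).obj (DCoh.toD Y F))))) ≅
      (DCoh.RΓ Y).obj ((DCoh.LTensorCx F).obj ((DCoh.Rpush q).obj
        ((DCoh.LTensorCx P).obj ((DCoh.Lpull p).obj (DCoh.toD X E)))))) := by
  obtain ⟨e⟩ := nonempty_exch p q (DCoh.toD _ P) (DCoh.toD X E) hE (DCoh.toD Y F) hF
  exact ⟨(DCoh.RΓ X).mapIso ((ltIso E).app _ ≪≫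
      (tensorRight (DCoh.toD X E)).mapIso ((DCoh.Rpush p).mapIso ((ltIso P).app _))) ≪≫ e ≪≫
    (DCoh.RΓ Y).mapIso ((tensorRight (DCoh.toD Y F)).mapIso
        ((DCoh.Rpush q).mapIso ((ltIso P).app _).symm) ≪≫ ((ltIso F).app _).symm)⟩

end K884.Calc
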