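import Groth.Agent.FMK.K884.Fib
import Groth.Agent.FMK.K884.Calc

/-!
# Duals of perfect objects of `D(O_X)` and their fibres

`IsDual K K'` : `K'` is a dual of `K` in the monoidal category `D(O_X)`.
* `exists_dual`, `IsDual.swap`, `isDual_RSheafHom`, `IsDual.restrict`, `IsDual.lpull`;
* `fibZero_dual_iff`: `H^i(K' ⊗ κ(y)) = 0` iff `H^{-i}(K ⊗ κ(y)) = 0`.
-/

set_option autoImplicit false

universe u

open CategoryTheory CategoryTheory.Limits MonoidalCategory AlgebraicGeometry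

attribute [local instance] HasDerivedCategory.standard

open scoped Groth.Agent.Dcoh.MonCat Groth.Agent.Dcoh.ModD

namespace K884.DualP

open Groth.Agent.Dcoh Groth.Agent.PerfB.MinModel Groth.Agent.PerfB.Betti

variable {X Y : Scheme.{u}}

/-- `K'` is a dual of `K`. -/
def IsDual (K K' : DCoh.D X) : Prop := Nonempty (ExactPairing K K')

lemma IsDual.of_iso_left {K L K' : DCoh.D X} (e : K ≅ L) (h : IsDual K K') : IsDual L K' := by
  obtain ⟨h⟩ := h
  exact ⟨exactPairingCongrLeft e.symm⟩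

lemma IsDual.of_iso_right {K K' L' : DCoh.D X} (e : K' ≅ L') (h : IsDual K K') : IsDual K L' := by
  obtain ⟨h⟩ := h
  exact ⟨exactPairingCongrRight e.symm⟩

/-- Uniqueness of duals. -/
lemma IsDual.nonempty_iso {K K' K'' : DCoh.D X} (h : IsDual K K') (h' : IsDual K K'') :
    Nonempty (K' ≅ K'') := by
  obtain ⟨h⟩ := h
  obtain ⟨h'⟩ := h'
  exact ⟨rightDualIso h h'⟩

theorem exists_dual {K : DCoh.D X} (hK : DCoh.IsPerfect K) :
    ∃ K' : DCoh.D X, DCoh.IsPerfect K' ∧ IsDual K K' :=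
  PerfDual.exists_exactPairing K hK

lemma IsDual.isPerfect {K K' : DCoh.D X} (h : IsDual K K') (hK : DCoh.IsPerfect K) :
    DCoh.IsPerfect K' := by
  obtain ⟨L, hL, h'⟩ := exists_dual hK
  obtain ⟨e⟩ := h'.nonempty_iso h
  exact LocalD.isPerfect_of_iso e hL

/-- Biduality. -/
theorem IsDual.swap {K K' : DCoh.D X} (h : IsDual K K') (hK : DCoh.IsPerfect K) : IsDual K' K := by
  obtain ⟨K'', -, h''⟩ := exists_dual (h.isPerfect hK)
  obtain ⟨p⟩ := h
  obtain ⟨p'⟩ := h''
  obtain ⟨w⟩ := MonSymm293.weakSymm (X := X) K'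
  obtain ⟨w2⟩ := MonSymm293.weakSymm (X := X) K
  -- `tensorLeft K' ⊣ tensorLeft K` and `tensorRight K' ⊣ tensorRight K''`
  let a1 : tensorLeft K' ⊣ tensorLeft K := tensorLeftAdjunction K K'
  let a2 : tensorRight K' ⊣ tensorRight K'' := tensorRightAdjunction K' K''
  let e : tensorLeft K ≅ tensorRight K'' := (a1.ofNatIsoLeft w).rightAdjointUniq a2
  have e2 : K ≅ K'' := (ρ_ K).symm ≪≫ e.app (𝟙_ (DCoh.D X)) ≪≫ λ_ K''
  exact ⟨exactPairingCongrRight e2⟩

/-- `RHom(K, O_X)` is the dual of a perfect object. -/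
theorem isDual_RSheafHom (K : CochainComplex X.Modules ℤ) (hK : DCoh.IsPerfect (DCoh.toD X K))
    [DCoh.HasLTensorCx K] [DCoh.HasRSheafHom K] :
    IsDual (DCoh.toD X K) ((DCoh.RSheafHom K).obj (DCoh.inD X (Coh.structureModule X))) := by
  have h : IsDual (DCoh.toD X K) ((DCoh.RSheafHom K).obj (𝟙_ (DCoh.D X))) :=
    ⟨DualX.exactPairing hK (ModTens.adjQ K)⟩
  exact h.of_iso_right ((DCoh.RSheafHom K).mapIso (DualX.unitIso X).symm)

/-- Restriction of duals to opens. -/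
theorem IsDual.restrict {K K' : DCoh.D Y} (h : IsDual K K') (j : X ⟶ Y) [IsOpenImmersion j] :
    IsDual ((DCoh.restrictD j).obj K) ((DCoh.restrictD j).obj K') := by
  obtain ⟨h⟩ := h
  let _ := ProjShriekD.restrictDMonoidal j
  exact ⟨DualMap.mapPairing (DCoh.restrictD j) K K'⟩

/-- Pullback of duals. -/
theorem IsDual.lpull {K K' : DCoh.D Y} (h : IsDual K K') (f : X ⟶ Y) [DCoh.HasLpull f] :
    IsDual ((DCoh.Lpull f).obj K) ((DCoh.Lpull f).obj K') := by
  obtain ⟨h⟩ := h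
  let _ := Calc.lpullMon f
  exact ⟨DualMap.mapPairing (DCoh.Lpull f) K K'⟩

/-- The dual of a bounded complex of finite free modules. -/
theorem exists_dual_termsFree (K : CochainComplex X.Modules ℤ) (n : ℤ → ℕ) (hK : TermsFree K n)
    (a b : ℤ) (hn : ∀ i, i < a ∨ b < i → n i = 0) :
    ∃ K' : CochainComplex X.Modules ℤ, TermsFree K' (fun i => n (-i)) ∧
      IsDual (DerivedCategory.Q.obj K) (DerivedCategory.Q.obj K') := by
  let φ : ∀ i, K.X i ≅ FlatMod.freeMod X (n i) := fun i => (hK i).some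
  have hz : ∀ i, i < a ∨ b < i → IsZero (K.X i) := fun i hi => by
    have e := φ i
    rw [hn i hi] at e
    exact (isZero_freeMod_zero X).of_iso e
  let e : ∀ i, ExactPairing (K.X i) (FlatMod.freeMod X (n i)) := fun i =>
    letI := MonInst.freePairing X (n i)
    exactPairingCongrLeft (φ i)
  obtain ⟨K', ψ, ⟨hK'⟩⟩ := DualCx.exists_exactPairing K a b (fun i hi => hz i (Or.inl hi))
    (fun i hi => hz i (Or.inr hi)) (fun i => FlatMod.freeMod X (n i)) e
  have hfree : TermsFree K' (fun i => n (-i)) := fun i =>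
    ⟨eqToIso (by rw [neg_neg]) ≪≫ ψ (-i)⟩
  refine ⟨K', hfree, ?_⟩
  have h1 : ModD.KF X K := DualX.KF_of_free K a b hz (fun i => ⟨n i, hK i⟩)
  have h2 : ModD.KF X K' := DualX.KF_of_free K' (-b) (-a) (fun i hi => by
    have e : K'.X i ≅ FlatMod.freeMod X (n (-i)) := (hfree i).some
    rw [hn (-i) (by lia)] at e
    exact (isZero_freeMod_zero X).of_iso e) (fun i => ⟨n (-i), hfree i⟩)
  exact ⟨DualMap.pairingQ (ModD.KF X) K K' h1 h2⟩

/-- Fibres in terms of a model. -/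
lemma fibZero_of_model (K : DCoh.D Y) {U : Scheme.{u}} (j : U ⟶ Y) [IsOpenImmersion j] (y : Y)
    (hy : y ∈ Set.range j) {M : CochainComplex U.Modules ℤ} {n : ℤ → ℕ} (hM : TermsFree M n)
    {a b : ℤ} (hn : ∀ i, i < a ∨ b < i → n i = 0)
    (α : DerivedCategory.Q.obj M ≅ (DCoh.restrictD j).obj K) (i : ℤ) (h : n i = 0) :
    Fib.FibZero K y i := by
  have hL1 := Groth.Agent.Dcoh.DerPull.hasLpull (Y.fromSpecResidueField y)
  have hL := Groth.Agent.Dcoh.DerPull.hasLpull (lift y j hy)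
  rw [Fib.fibZero_iff]
  obtain ⟨e⟩ := lpullLift y j hy K
  have e1 : (DerivedCategory.homologyFunctor _ i).obj
      ((DCoh.Lpull ((Y.fromSpecResidueField y))).obj K) ≅ (fib y j M hy).homology i :=
    (DerivedCategory.homologyFunctor _ i).mapIso (e ≪≫
      (DCoh.Lpull (lift y j hy)).mapIso α.symm ≪≫ lpullFib y j hM hn hy) ≪≫
    (DerivedCategory.homologyFunctorFactors _ i).app (fib y j M hy)
  refine IsZero.of_iso ?_ e1
  have h2 : IsZero ((fib y j M hy).X i) := by
    have h3 := (termsFree_fib y j hM hy i).some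
    rw [h] at h3
    exact (isZero_freeMod_zero _).of_iso h3
  rw [← HomologicalComplex.exactAt_iff_isZero_homology]
  exact ShortComplex.exact_of_isZero_X₂ _ h2

/-- Fibres in terms of a minimal model. -/
lemma rank_eq_zero_of_fibZero (K : DCoh.D Y) {U : Scheme.{u}} (j : U ⟶ Y) [IsOpenImmersion j]
    (u : U) {M : CochainComplex U.Modules ℤ} {n : ℤ → ℕ} (hM : TermsFree M n)
    {a b : ℤ} (hn : ∀ i, i < a ∨ b < i → n i = 0) (hmin : MinimalAt u M)
    (α : DerivedCategory.Q.obj M ≅ (DCoh.restrictD j).obj K) (i : ℤ) (h : Fib.FibZero K (j u) i) :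
    n i = 0 := by
  have hL1 := Groth.Agent.Dcoh.DerPull.hasLpull (Y.fromSpecResidueField (j u))
  rw [Fib.fibZero_iff] at h
  have hb := betti_eq (j u) j hM hn K (i - 1) α.hom (fun _ _ => inferInstance) inferInstance i
      (by lia) u rfl hmin
  rw [← hb]
  have h2 : IsZero ((Groth.Agent.PerfB.FibreDim.Γf (Spec (Y.residueField (j u)))).obj
      (DCoh.HD ((DCoh.Lpull ((Y.fromSpecResidueField (j u)))).obj K) i)) :=
    Functor.map_isZero _ h
  rw [ModuleCat.isZero_iff_subsingleton] at h2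
  have h3 : Nontrivial (Coh.Γtop (Spec (Y.residueField (j u)))) :=
    (Groth.Agent.PerfB.FibreDim.isField_Γtop_residueField Y (j u)).nontrivial
  exact @Module.finrank_zero_of_subsingleton _ _ _ _ _ _ h2

theorem IsDual.fibZero {K K' : DCoh.D Y} (h : IsDual K K') (hK : DCoh.IsPerfect K) (y : Y) (i : ℤ)
    (h0 : Fib.FibZero K y (-i)) : Fib.FibZero K' y i := by
  obtain ⟨U, j, hj, u₀, rfl, M, n, a, b, α, hM, hn, hmin⟩ := exists_model_perf K hK y
  obtain ⟨M', hM', hd⟩ := exists_dual_termsFree M n hM a b hn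
  obtain ⟨e⟩ := (hd.of_iso_left α).nonempty_iso (h.restrict j)
  exact fibZero_of_model K' j (j u₀) ⟨u₀, rfl⟩ hM' (a := -b) (b := -a)
    (fun i hi => hn (-i) (by lia)) e i (rank_eq_zero_of_fibZero K j u₀ hM hn hmin α _ h0)

/-- `H^i(K' ⊗ κ(y)) = 0` iff `H^{-i}(K ⊗ κ(y)) = 0`. -/
theorem IsDual.fibZero_iff {K K' : DCoh.D Y} (h : IsDual K K') (hK : DCoh.IsPerfect K) (y : Y)
    (i : ℤ) : Fib.FibZero K' y i ↔ Fib.FibZero K y (-i) := by
  constructor
  · intro h0
    refine (h.swap hK).fibZero (h.isPerfect hK) y (-i) ?_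
    rwa [neg_neg]
  · exact h.fibZero hK y i

end K884.DualP
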