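import Groth.Agent.FMK.K884.Model

/-!
# Cohomology sheaves and fibres of perfect complexes

`FibZero K y i` : `H^i(K ⊗ κ(y)) = 0`.  For `K` perfect:
* `not_fibZero_of_mem`: if `y ∈ supp H^i(K)` then `H^i(K ⊗ κ(y)) ≠ 0`;
* `mem_of_fibZero_succ`: if `H^{c+1}(K ⊗ κ(y)) = 0` and `H^c(K ⊗ κ(y)) ≠ 0` then `y ∈ supp H^c(K)`;
* `exists_bounds`: `H^i(K ⊗ κ(y)) = 0` outside a finite interval;
* `fibZero_of_depth`: if `H^i(K)_y = 0` for `i < a` then `H^c(K ⊗ κ(y)) = 0` for `c < a - depth O_{Y,y}`.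
-/

set_option autoImplicit false

universe u

open CategoryTheory CategoryTheory.Limits AlgebraicGeometry IsLocalRing

attribute [local instance] HasDerivedCategory.standard

namespace K884.Fib

open Groth.Agent.Dcoh.StalkMod

variable {Y : Scheme.{u}}

/-- `H^i(K ⊗ κ(y)) = 0`. -/
def FibZero (K : DCoh.D Y) (y : Y) (i : ℤ) : Prop :=
  haveI := Groth.Agent.Dcoh.DerPull.hasLpull (Y.fromSpecResidueField y)
  IsZero (DCoh.HD ((DCoh.Lpull (Y.fromSpecResidueField y)).obj K) i)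

lemma fibZero_iff (K : DCoh.D Y) (y : Y) (i : ℤ) [DCoh.HasLpull (Y.fromSpecResidueField y)] :
    FibZero K y i ↔ IsZero (DCoh.HD ((DCoh.Lpull (Y.fromSpecResidueField y)).obj K) i) := Iff.rfl

lemma FibZero.of_iso {K L : DCoh.D Y} (e : K ≅ L) {y : Y} {i : ℤ} (h : FibZero K y i) :
    FibZero L y i := by
  have := Groth.Agent.Dcoh.DerPull.hasLpull (Y.fromSpecResidueField y)
  rw [fibZero_iff] at h ⊢
  exact h.of_iso ((DerivedCategory.homologyFunctor _ i).mapIso
    ((DCoh.Lpull (Y.fromSpecResidueField y)).mapIso e.symm))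

lemma isZero_stalk_iff (M : Y.Modules) (y : Y) :
    IsZero ((stalkMod y).obj M) ↔ y ∉ CohB1.support M := by
  rw [ModuleCat.isZero_iff_subsingleton]
  change Subsingleton (M.presheaf.stalk y) ↔ ¬ ¬ Subsingleton (M.presheaf.stalk y)
  rw [not_not]

variable {K : DCoh.D Y} (hK : DCoh.IsPerfect K) (y : Y)

include hK

theorem not_fibZero_of_mem (i : ℤ) (h : y ∈ CohB1.support (DCoh.HD K i)) : ¬ FibZero K y i := by
  have := Groth.Agent.Dcoh.DerPull.hasLpull (Y.fromSpecResidueField y)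
  intro h2
  obtain ⟨E, n, a, b, -, -, h3, h4, h5⟩ := Model.exists_localModel K hK y
  have h6 : IsZero (E.X i) := (h3 i).1 ((h5 i).2 h2)
  obtain ⟨e⟩ := h4 i
  have h7 : IsZero (E.homology i) := by
    rw [← HomologicalComplex.exactAt_iff_isZero_homology]
    exact ShortComplex.exact_of_isZero_X₂ _ h6
  exact (isZero_stalk_iff _ _).1 (h7.of_iso e.symm) h

theorem mem_of_fibZero_succ (c : ℤ) (h1 : FibZero K y (c + 1)) (h2 : ¬ FibZero K y c) :
    y ∈ CohB1.support (DCoh.HD K c) := by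
  have := Groth.Agent.Dcoh.DerPull.hasLpull (Y.fromSpecResidueField y)
  by_contra h
  apply h2
  obtain ⟨E, n, a, b, hE, -, h3, h4, h5⟩ := Model.exists_localModel K hK y
  have h6 : IsZero (E.X (c + 1)) := (h3 _).1 ((h5 _).2 h1)
  obtain ⟨e⟩ := h4 c
  have h7 : IsZero (E.homology c) := ((isZero_stalk_iff _ _).2 h).of_iso e
  exact (h5 c).1 ((h3 c).2 (LocAB.isZero_X_of_homology hE c h6 h7))

theorem exists_bounds : ∃ a b : ℤ, ∀ i, i < a ∨ b < i → FibZero K y i := by
  have := Groth.Agent.Dcoh.DerPull.hasLpull (Y.fromSpecResidueField y)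
  obtain ⟨E, n, a, b, hE, h2, h3, h4, h5⟩ := Model.exists_localModel K hK y
  exact ⟨a, b, fun i hi => (h5 i).1 (h2 i hi)⟩

theorem exists_mem_of_not_fibZero (i : ℤ) (h : ¬ FibZero K y i) :
    ∃ j, i ≤ j ∧ y ∈ CohB1.support (DCoh.HD K j) := by
  obtain ⟨a, b, hab⟩ := exists_bounds hK y
  have key : ∀ m : ℕ, ∀ i : ℤ, b < i + m → ¬ FibZero K y i →
      ∃ j, i ≤ j ∧ y ∈ CohB1.support (DCoh.HD K j) := by
    intro m
    induction m with
    | zero =>
      intro i hi h
      exact absurd (hab i (Or.inr (by simpa using hi))) h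
    | succ m ih =>
      intro i hi h
      by_cases h1 : FibZero K y (i + 1)
      · exact ⟨i, le_rfl, mem_of_fibZero_succ hK y i h1 h⟩
      · obtain ⟨j, hj, h2⟩ := ih (i + 1) (by push_cast at hi; lia) h1
        exact ⟨j, by lia, h2⟩
  exact key (b - i + 1).toNat i (by have := Int.self_le_toNat (b - i + 1); lia) h

/-- If all fibres vanish in degree `i` then so does the cohomology sheaf. -/
theorem isZero_HD_of_fibZero (i : ℤ) (h : ∀ y : Y, FibZero K y i) : IsZero (DCoh.HD K i) := by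
  refine isZero_of_subsingleton _ fun y => ?_
  have h1 := not_fibZero_of_mem hK y i
  by_contra h2
  exact h1 h2 (h y)

theorem fibZero_of_depth [IsLocallyNoetherian Y] (a : ℤ)
    (hex : ∀ i, i < a → y ∉ CohB1.support (DCoh.HD K i)) (d : ℕ)
    (hd : LocCoh.depth (Y.presheaf.stalk y) (Y.presheaf.stalk y) = d) (c : ℤ) (hc : c + d < a) :
    FibZero K y c := by
  have := Groth.Agent.Dcoh.DerPull.hasLpull (Y.fromSpecResidueField y)
  obtain ⟨E, n, lo, hi, hE, h2, h3, h4, h5⟩ := Model.exists_localModel K hK y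
  refine (h5 c).1 ((h3 c).2 (LocAB.isZero_X_of_depth hE lo
    (fun i hi => (h3 i).1 (h2 i (Or.inl hi))) a (fun i hi => ?_) d hd c hc))
  obtain ⟨e⟩ := h4 i
  exact ((isZero_stalk_iff _ _).2 (hex i hi)).of_iso e

end K884.Fib
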