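import Groth.Agent.FMK.K884.BCh
import Groth.Agent.FMK.K884.Fib
import Groth.Agent.S2231
import Groth.Agent.PerfA.TensPerf
import Groth.Agent.S0921
import Groth.Prelude.Def_DualFM

/-!
# Kernel functors with perfect kernels over a field
-/

set_option autoImplicit false

universe u

open CategoryTheory CategoryTheory.Limits AlgebraicGeometry

attribute [local instance] HasDerivedCategory.standard

namespace K884.Ker

variable {k : Type u} [Field k] {X Y : Scheme.{u}} (a : X ⟶ Spec (CommRingCat.of k))
  (b : Y ⟶ Spec (CommRingCat.of k))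

lemma flat_of_field : Flat a := inferInstance

lemma lfp_of_lft [LocallyOfFiniteType a] : LocallyOfFinitePresentation a :=
  LocallyOfFinitePresentation.iff_locallyOfFiniteType.2 inferInstance

variable (P : CochainComplex (pullback a b).Modules ℤ)
  [DCoh.HasLpull (pullback.fst a b)] [DCoh.HasLTensorCx P] [DCoh.HasRpush (pullback.snd a b)]

/-- The object on the product. -/
noncomputable abbrev tw (M : DCoh.D X) : DCoh.D (pullback a b) :=
  (DCoh.LTensorCx P).obj ((DCoh.Lpull (pullback.fst a b)).obj M)

omit [DCoh.HasRpush (pullback.snd a b)] in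
lemma isPerfect_tw (hP : DCoh.IsPerfect (DCoh.toD (pullback a b) P)) {M : DCoh.D X}
    (hM : DCoh.IsPerfect M) : DCoh.IsPerfect (tw a b P M) :=
  Groth.Agent.PerfA.TensPerf.isPerfect_LTensorCx P hP _ (Groth.Agent.S0921.result _ M hM)

/-- `Φ_P(M)` is perfect for `M`, `P` perfect and `X` proper. -/
lemma isPerfect_phi [IsProper a] (hP : DCoh.IsPerfect (DCoh.toD (pullback a b) P)) {M : DCoh.D X}
    (hM : DCoh.IsPerfect M) : DCoh.IsPerfect ((FMK.phi a b P).obj M) := by
  have := flat_of_field a
  have := lfp_of_lft a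
  exact Groth.Agent.S2231.result a b P hP M hM

/-- The cohomology of the fibres `X_y` computes the fibres of `Φ_P(M)`. -/
theorem isZero_RΓ_iff [QuasiCompact a] [QuasiSeparated a]
    (hP : DCoh.IsPerfect (DCoh.toD (pullback a b) P)) {M : DCoh.D X}
    (hM : DCoh.IsPerfect M) (y : Y)
    [DCoh.HasLpull (pullback.fst (pullback.snd a b) (Y.fromSpecResidueField y))]
    [DCoh.HasRΓ (pullback (pullback.snd a b) (Y.fromSpecResidueField y))] (i : ℤ) :
    IsZero ((DerivedCategory.homologyFunctor AddCommGrpCat.{u} i).obj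
      ((DCoh.RΓ (pullback (pullback.snd a b) (Y.fromSpecResidueField y))).obj
        ((DCoh.Lpull (pullback.fst (pullback.snd a b) (Y.fromSpecResidueField y))).obj
          ((DCoh.LTensorCx P).obj ((DCoh.Lpull (pullback.fst a b)).obj M))))) ↔
      Fib.FibZero ((FMK.phi a b P).obj M) y i := by
  have := flat_of_field a
  have := Groth.Agent.Dcoh.DerPull.hasLpull (Y.fromSpecResidueField y)
  rw [Fib.fibZero_iff]
  exact BCh.isZero_RΓ_fibre_iff (pullback.snd a b) (Y.fromSpecResidueField y) (tw a b P M)
    (Groth.Agent.PerfA.QCohD.isQCohD_of_isPerfect _ (isPerfect_tw a b P hP hM)) i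

end K884.Ker
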