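import Groth.Agent.FMK.K884.Shift
import Groth.Agent.FMK.K884.DualP
import Groth.Agent.FMK.K884.Ker
import Groth.Agent.PerfC.RHomD
import Groth.Agent.S16381

/-!
# The dual of a kernel transform
-/

set_option autoImplicit false

universe u

open CategoryTheory CategoryTheory.Limits AlgebraicGeometry

attribute [local instance] HasDerivedCategory.standard

namespace K884.DualPhi

/-- The dual of `Φ_P(E)` is `Φ_{P^∨}(RHom(E, ω_X))[d]`. -/
theorem isDual_phi (k : Type u) [Field k] [IsAlgClosed k]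
    (X Y : Scheme.{u}) (a : X ⟶ Spec (CommRingCat.of k)) (b : Y ⟶ Spec (CommRingCat.of k)) [IsProper a] [IsProper b]
    (hXcm : ∀ x : ↥X, LocCoh.IsCohenMacaulayLocalRing ↑(X.presheaf.stalk x))
    (hYcm : ∀ y : ↥Y, LocCoh.IsCohenMacaulayLocalRing ↑(Y.presheaf.stalk y))
    (d : ℕ) (hd : topologicalKrullDim ↥X = (d : WithBot ℕ∞))
    (hXeq : ∀ Z ∈ irreducibleComponents ↥X, topologicalKrullDim ↥Z = (d : WithBot ℕ∞))
    [DCoh.HasRpush a] (ha : DCoh.RpushPreservesQCoh a)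
    (adx : DCoh.DQCoh (Spec (CommRingCat.of k)) ⥤ DCoh.DQCoh X) (adj : DCoh.RpushQ a ha ⊣ adx)
    (O : DCoh.DQCoh (Spec (CommRingCat.of k)))
    (hO : Nonempty (O.obj ≅ DCoh.inD (Spec (CommRingCat.of k)) (Coh.structureModule (Spec (CommRingCat.of k)))))
    (P : CochainComplex (pullback a b).Modules ℤ) (hP : DCoh.IsPerfect (DCoh.toD (pullback a b) P))
    [DCoh.HasLpull (pullback.fst a b)] [DCoh.HasLTensorCx P] [DCoh.HasRSheafHom P] [DCoh.HasRpush (pullback.snd a b)]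
    (P' : CochainComplex (pullback a b).Modules ℤ) [DCoh.HasLTensorCx P']
    (hP' : Nonempty (DCoh.toD (pullback a b) P' ≅
      (DCoh.RSheafHom P).obj (DCoh.inD (pullback a b) (Coh.structureModule (pullback a b)))))
    (F : CochainComplex X.Modules ℤ) (hF : DCoh.IsPerfect (DCoh.toD X F)) [DCoh.HasLTensorCx F] [DCoh.HasRSheafHom F] :
    DualP.IsDual ((FMK.phi a b P).obj (DCoh.toD X F))
      (((FMK.phi a b P').obj ((DCoh.RSheafHom F).obj (DCoh.inD X (DCoh.HD (adx.obj O).obj (-(d : ℤ))))))⟦(d : ℤ)⟧) := by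
  let K := DerivedCategory.Q.objPreimage ((FMK.phi a b P).obj (DCoh.toD X F))
  let eK : DCoh.toD Y K ≅ (FMK.phi a b P).obj (DCoh.toD X F) := DerivedCategory.Q.objObjPreimageIso _
  have h1 : DCoh.HasLTensorCx K := Groth.Agent.Dcoh.ModTens.hasLTensorCx K
  have h2 : DCoh.HasRSheafHom K := Groth.Agent.PerfC.RHomD.hasRSheafHom K
  obtain ⟨e⟩ := Groth.Agent.S16381.result k X Y a b hXcm hYcm d hd hXeq ha adx adj O hO P hP P' hP' F hF K ⟨eK⟩
  obtain ⟨e2⟩ := Shift.nonempty_phi a b P'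
    ((DCoh.RSheafHom F).obj (DCoh.inD X (DCoh.HD (adx.obj O).obj (-(d : ℤ))))) (d : ℤ)
  have hK : DCoh.IsPerfect (DCoh.toD Y K) :=
    Groth.Agent.Dcoh.LocalD.isPerfect_of_iso eK.symm (Ker.isPerfect_phi a b P hP hF)
  exact ((DualP.isDual_RSheafHom K hK).of_iso_left eK).of_iso_right (e ≪≫ e2)

end K884.DualPhi
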