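import Groth.Agent.FMK.K884.Calc
import Groth.Agent.FMK.K884.Ker
import Groth.Agent.FMK.K884.Flt
import Groth.Agent.FMK.K884.GradeVan
import Groth.Agent.FMK.K884.SerreLem
import Groth.Agent.S1006

/-!
# Exchange with a finite locally free module, and twists by powers of an ample module
-/

set_option autoImplicit false

universe u

open CategoryTheory CategoryTheory.Limits MonoidalCategory AlgebraicGeometry

attribute [local instance] HasDerivedCategory.standard

open scoped Groth.Agent.Dcoh.MonCat Groth.Agent.Dcoh.ModD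

namespace K884.Exch

open Groth.Agent.Dcoh Groth.Agent.Cohder.RelPCMon

variable {X Y Z : Scheme.{u}}

/-- Exchange with a finite locally free module on `Y`. -/
theorem nonempty_exch_inD (p : Z ⟶ X) (q : Z ⟶ Y) [DCoh.HasRpush p] [DCoh.HasRpush q] [DCoh.HasLpull p]
    [DCoh.HasLpull q] [DCoh.HasRΓ X] [DCoh.HasRΓ Y] (P : CochainComplex Z.Modules ℤ)
    [DCoh.HasLTensorCx P] (E : CochainComplex X.Modules ℤ) [DCoh.HasLTensorCx E]
    (hE : DCoh.IsPerfect (DCoh.toD X E)) (N : Y.Modules) (hN : FlatMod.IsFinLocFree N) :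
    Nonempty ((DCoh.RΓ X).obj ((DCoh.LTensorCx E).obj ((DCoh.Rpush p).obj
        ((DCoh.LTensorCx P).obj ((DCoh.Lpull q).obj (DCoh.inD Y N))))) ≅
      (DCoh.RΓ Y).obj ((DCoh.Rpush q).obj
        ((DCoh.LTensorCx P).obj ((DCoh.Lpull p).obj (DCoh.toD X E))) ⊗ DCoh.inD Y N)) := by
  have h1 : DCoh.HasLTensorCx (sgl N) := ModTens.hasLTensorCx _
  obtain ⟨e⟩ := Calc.nonempty_exchCx p q P E hE (sgl N) (GradeVan.isPerfect_toD_single hN)
  exact ⟨(DCoh.RΓ X).mapIso ((DCoh.LTensorCx E).mapIso ((DCoh.Rpush p).mapIso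
    ((DCoh.LTensorCx P).mapIso ((DCoh.Lpull q).mapIso (Flt.sglIso N).symm)))) ≪≫ e ≪≫
    (DCoh.RΓ Y).mapIso ((Calc.ltIso (sgl N)).app _ ≪≫ whiskerLeftIso _ (Flt.sglIso N))⟩

lemma isFinLocFree_tensorPow {L : Y.Modules} (hL : PicF.IsInvertible L) (n : ℕ) :
    FlatMod.IsFinLocFree (CohB1.tensorPow L n) :=
  Groth.Agent.Ega2.QCohLocal.isFinLocFree_of_rank
    (Groth.Agent.Ega2.QCohLocal.isFinLocFreeOfRank_one_iff.mpr
      (Groth.Agent.Fdesc.LocGen.isInvertible_tensorPow hL n))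

variable {k : Type u} [Field k] (a : X ⟶ Spec (CommRingCat.of k)) (b : Y ⟶ Spec (CommRingCat.of k))
  (P : CochainComplex (pullback a b).Modules ℤ)

lemma isNoetherian_of_proper [IsProper b] : IsNoetherian Y := by
  have h1 : IsLocallyNoetherian Y := GradeVan.isLocallyNoetherian_of_lft b
  have h2 : CompactSpace Y := QuasiCompact.compactSpace_of_compactSpace b
  exact { }

theorem exists_bound [IsProper a] [IsProper b]
    (hP : DCoh.IsPerfect (DCoh.toD (pullback a b) P))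
    [DCoh.HasLpull (pullback.fst a b)] [DCoh.HasLpull (pullback.snd a b)] [DCoh.HasLTensorCx P]
    [DCoh.HasRpush (pullback.fst a b)] [DCoh.HasRpush (pullback.snd a b)] [DCoh.HasRΓ X]
    (L : Y.Modules) (hL : CohB1.IsAmple L)
    (F : CochainComplex X.Modules ℤ) (hF : DCoh.IsPerfect (DCoh.toD X F)) [DCoh.HasLTensorCx F] :
    ∃ n₀ : ℕ, ∀ n : ℕ, n₀ ≤ n → ∀ i : ℤ,
      (IsZero (DCoh.HD ((FMK.phi a b P).obj (DCoh.toD X F)) i) ↔
        IsZero ((DerivedCategory.homologyFunctor AddCommGrpCat.{u} i).obj ((DCoh.RΓ X).obj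
          ((DCoh.LTensorCx F).obj ((DCoh.Lpull (pullback.snd a b) ⋙ DCoh.LTensorCx P ⋙
            DCoh.Rpush (pullback.fst a b)).obj (DCoh.inD Y (CohB1.tensorPow L n))))))) := by
  have hY : IsNoetherian Y := isNoetherian_of_proper b
  have hΓ : DCoh.HasRΓ Y := RGam.hasRΓ Y
  obtain ⟨hc, lo, hi, hlo, hhi⟩ := Groth.Agent.S1006.result Y _ (Ker.isPerfect_phi a b P hP hF)
  obtain ⟨n₀, hn₀⟩ := SerreLem.exists_bound b L hL _ lo hi hc
  refine ⟨n₀, fun n hn i => ?_⟩
  obtain ⟨e⟩ := nonempty_exch_inD (pullback.fst a b) (pullback.snd a b) P F hF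
    (CohB1.tensorPow L n) (isFinLocFree_tensorPow hL.1 n)
  rw [← hn₀ n hn i]
  exact ((DerivedCategory.homologyFunctor AddCommGrpCat.{u} i).mapIso e).symm.isZero_iff

end K884.Exch
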