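import Groth.Agent.FMK.K884.Flt
import Groth.Agent.FMK.K884.Ker
import Groth.Agent.FMK.K884.HypG
import Groth.Agent.FMK.K884.GradeVan
import Groth.Agent.Dual.H328.LpullSingle
import Groth.Agent.S0911
import Groth.Agent.PerfC.PullRestrict

/-!
# Fibres of the transform of a sheaf by a locally free kernel
-/

set_option autoImplicit false

universe u

open CategoryTheory CategoryTheory.Limits MonoidalCategory AlgebraicGeometry

attribute [local instance] HasDerivedCategory.standard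

open scoped Groth.Agent.Dcoh.MonCat Groth.Agent.Dcoh.ModD

namespace K884.FibConc

open Groth.Agent.Dcoh Groth.Agent.Cohder.RelPCMon Groth.Agent.PerfA.Hyp1

/-- A module has no hypercohomology in negative degrees. -/
lemma isZero_RΓ_inD {X : Scheme.{u}} [DCoh.HasRΓ X] {K : DCoh.D X} {M : X.Modules}
    (e : K ≅ DCoh.inD X M) (i : ℤ) (hi : i < 0) :
    IsZero ((DerivedCategory.homologyFunctor AddCommGrpCat.{u} i).obj ((DCoh.RΓ X).obj K)) := by
  rw [HypG.isZero_RΓ_iff]
  intro φ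
  rw [← cancel_mono e.hom, zero_comp]
  exact DerivedCategory.TStructure.t.zero_of_isLE_of_isGE _ i 0 (by lia) inferInstance
    inferInstance

variable {k : Type u} [Field k] {X Y : Scheme.{u}} (a : X ⟶ Spec (CommRingCat.of k))
  (b : Y ⟶ Spec (CommRingCat.of k))

/-- The projection `X_y ⟶ X` is flat. -/
lemma flat_fibre {T : Scheme.{u}} (g : T ⟶ Y) :
    Flat (pullback.fst (pullback.snd a b) g ≫ pullback.fst a b) := by
  have h := (IsPullback.of_hasPullback (pullback.snd a b) g).flip.paste_vert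
    (IsPullback.of_hasPullback a b).flip
  exact MorphismProperty.of_isPullback h (Ker.flat_of_field (g ≫ b))

/-- The fibres of `Lp^* F ⊗ P₀`. -/
theorem nonempty_fibre_iso {T : Scheme.{u}} (g : T ⟶ Y) (F : X.Modules)
    {P₀ : (pullback a b).Modules} (hP₀ : FlatMod.IsFinLocFree P₀)
    [DCoh.HasLpull (pullback.fst a b)] [DCoh.HasLTensorCx (sgl P₀)]
    [DCoh.HasLpull (pullback.fst (pullback.snd a b) g)] :
    ∃ M : (pullback (pullback.snd a b) g).Modules,
      Nonempty ((DCoh.Lpull (pullback.fst (pullback.snd a b) g)).obj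
        ((DCoh.LTensorCx (sgl P₀)).obj ((DCoh.Lpull (pullback.fst a b)).obj (DCoh.inD X F))) ≅
          DCoh.inD _ M) := by
  let j := pullback.fst (pullback.snd a b) g
  let p := pullback.fst a b
  have hfl : Flat (j ≫ p) := flat_fibre a b g
  have h1 : DCoh.HasLpull (j ≫ p) := DerPull.hasLpull _
  let _ := Calc.lpullMon j
  obtain ⟨e1⟩ := Groth.Agent.S0911.result j p
  obtain ⟨e2⟩ := Flt.nonempty_lpull_inD (j ≫ p) F
  obtain ⟨e3⟩ := Groth.Agent.Dual.H328.LpullSingle.nonempty_lpull_inD j P₀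
    (Spread.isFlat_of_isFinLocFree hP₀)
  have hfl2 : FlatMod.IsFlat ((Scheme.Modules.pullback j).obj P₀) :=
    Spread.isFlat_of_isFinLocFree (Groth.Agent.PerfC.PullRestrict.isFinLocFree_pullback j hP₀)
  obtain ⟨e4⟩ := Flt.nonempty_tensor_inD ((Scheme.Modules.pullback j).obj P₀)
    ((Scheme.Modules.pullback (j ≫ p)).obj F) hfl2
  obtain ⟨e5⟩ := Calc.nonempty_braid
    (DCoh.inD _ ((Scheme.Modules.pullback (j ≫ p)).obj F)) (DCoh.inD _ ((Scheme.Modules.pullback j).obj P₀))
  refine ⟨_, ⟨(DCoh.Lpull j).mapIso ((Calc.ltIso (sgl P₀)).app _ ≪≫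
      whiskerLeftIso _ (Flt.sglIso P₀)) ≪≫ (Functor.Monoidal.μIso (DCoh.Lpull j) _ _).symm ≪≫
      tensorIso (e1.app _ ≪≫ e2) e3 ≪≫ e5 ≪≫ e4⟩⟩

/-- `H^j(Φ_P(F) ⊗ κ(y)) = 0` for `j < 0` if `F` is a module and `P` is a finite locally free module. -/
theorem fibZero_of_neg [IsProper a] (F : X.Modules) (hF : DCoh.IsPerfect (DCoh.inD X F))
    {P₀ : (pullback a b).Modules} (hP₀ : FlatMod.IsFinLocFree P₀)
    [DCoh.HasLpull (pullback.fst a b)] [DCoh.HasLTensorCx (sgl P₀)]
    [DCoh.HasRpush (pullback.snd a b)] (y : Y) (j : ℤ) (hj : j < 0) :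
    Fib.FibZero ((FMK.phi a b (sgl P₀)).obj (DCoh.inD X F)) y j := by
  have h1 := DerPull.hasLpull (pullback.fst (pullback.snd a b) (Y.fromSpecResidueField y))
  have h2 := RGam.hasRΓ (pullback (pullback.snd a b) (Y.fromSpecResidueField y))
  have hP : DCoh.IsPerfect (DCoh.toD (pullback a b) (sgl P₀)) := GradeVan.isPerfect_toD_single hP₀
  refine (Ker.isZero_RΓ_iff a b (sgl P₀) hP hF y j).1 ?_
  obtain ⟨M, ⟨e⟩⟩ := nonempty_fibre_iso a b (Y.fromSpecResidueField y) F hP₀
  exact isZero_RΓ_inD e j hj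

end K884.FibConc
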