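import Groth.Agent.FMK.K884.GradeVan

/-!
# Cohomology of the dual of a perfect complex

* `isZero_HD_dual_of_gt`: if `H^i(K) = 0` for `i > d` then `H^j(K^∨) = 0` for `j < -d`;
* `le_dim_of_mem_dual`: if `H^i(K) = 0` for `i < a` then the support of `H^j(K^∨)` has codimension `≥ j + a`.
-/

set_option autoImplicit false

universe u

open CategoryTheory CategoryTheory.Limits AlgebraicGeometry IsLocalRing

attribute [local instance] HasDerivedCategory.standard

namespace K884.Gv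

open Groth.Agent.Localalg.Depth2

lemma depth_le_dim (R : Type u) [CommRing R] [IsLocalRing R] [IsNoetherianRing R] :
    ((LocCoh.depth R R : ℕ∞) : WithBot ℕ∞) ≤ ringKrullDim R := by
  obtain ⟨p, hp⟩ := associatedPrimes.nonempty R R
  exact (depth_le_ringKrullDim_quotient_of_mem_associatedPrimes hp).trans
    (ringKrullDim_quotient_le p)

lemma exists_depth (R : Type u) [CommRing R] [IsLocalRing R] [IsNoetherianRing R] :
    ∃ n : ℕ, LocCoh.depth R R = n ∧ (n : WithBot ℕ∞) ≤ ringKrullDim R := by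
  have h := depth_le_dim R
  have h1 : LocCoh.depth R R ≠ ⊤ := by
    intro h1
    rw [h1] at h
    have := ringKrullDim_lt_top (R := R)
    exact absurd (lt_of_le_of_lt h this) (lt_irrefl _)
  obtain ⟨n, hn⟩ := ENat.ne_top_iff_exists.1 h1
  refine ⟨n, hn.symm, ?_⟩
  rw [← hn] at h
  exact_mod_cast h

variable {Y : Scheme.{u}} {K K' : DCoh.D Y}

lemma fibZero_of_gt (hK : DCoh.IsPerfect K) (d : ℤ) (hd : ∀ i, d < i → IsZero (DCoh.HD K i)) (y : Y)
    (i : ℤ) (hi : d < i) : Fib.FibZero K y i := by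
  by_contra h
  obtain ⟨j, hj, h2⟩ := Fib.exists_mem_of_not_fibZero hK y i h
  exact (Fib.isZero_stalk_iff _ _).1
    (Functor.map_isZero (Groth.Agent.Dcoh.StalkMod.stalkMod y) (hd j (by lia))) h2

lemma fibZero_of_lt [IsLocallyNoetherian Y] (hK : DCoh.IsPerfect K) (a : ℤ)
    (ha : ∀ i, i < a → IsZero (DCoh.HD K i)) (y : Y) (d : ℕ)
    (hd : LocCoh.depth (Y.presheaf.stalk y) (Y.presheaf.stalk y) = d)
    (i : ℤ) (hi : i + d < a) : Fib.FibZero K y i :=
  Fib.fibZero_of_depth hK y a (fun j hj => (Fib.isZero_stalk_iff _ _).1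
    (Functor.map_isZero (Groth.Agent.Dcoh.StalkMod.stalkMod y) (ha j hj))) d hd i hi

theorem isZero_HD_dual_of_gt (hK : DCoh.IsPerfect K) (h : DualP.IsDual K K') (d : ℤ)
    (hd : ∀ i, d < i → IsZero (DCoh.HD K i)) (j : ℤ) (hj : j < -d) : IsZero (DCoh.HD K' j) := by
  refine Fib.isZero_HD_of_fibZero (h.isPerfect hK) j fun y => ?_
  rw [h.fibZero_iff hK]
  exact fibZero_of_gt hK d hd y _ (by lia)

theorem le_dim_of_mem_dual [IsLocallyNoetherian Y] (hK : DCoh.IsPerfect K) (h : DualP.IsDual K K')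
    (a : ℤ) (ha : ∀ i, i < a → IsZero (DCoh.HD K i)) (y : Y) (j : ℤ)
    (hy : y ∈ CohB1.support (DCoh.HD K' j)) (n : ℕ) (hn : (n : ℤ) ≤ j + a ∨ n = 0) :
    (n : WithBot ℕ∞) ≤ ringKrullDim (Y.presheaf.stalk y) := by
  rcases hn with hn | rfl
  · obtain ⟨e, he, hle⟩ := exists_depth (Y.presheaf.stalk y)
    refine le_trans ?_ hle
    by_contra hlt
    have hlt' : e < n := by
      by_contra h2
      exact hlt (by exact_mod_cast not_lt.1 h2)
    refine Fib.not_fibZero_of_mem (h.isPerfect hK) y j hy ?_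
    rw [h.fibZero_iff hK]
    exact fibZero_of_lt hK a ha y e he (-j) (by lia)
  · exact_mod_cast ringKrullDim_nonneg_of_nontrivial

lemma mem_support_iff_of_iso {M N : Y.Modules} (e : M ≅ N) (y : Y) :
    y ∈ CohB1.support M ↔ y ∈ CohB1.support N := by
  rw [← not_iff_not, ← Fib.isZero_stalk_iff, ← Fib.isZero_stalk_iff]
  exact ((Groth.Agent.Dcoh.StalkMod.stalkMod y).mapIso e).isZero_iff

end K884.Gv
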