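import Groth.Agent.FMK.K884.Calc
import Groth.Agent.Dual.H492.TensShift
import Groth.Prelude.Def_DualFM

/-!
# Kernel functors commute with shifts
-/

set_option autoImplicit false

universe u

open CategoryTheory CategoryTheory.Limits MonoidalCategory AlgebraicGeometry

attribute [local instance] HasDerivedCategory.standard

open scoped Groth.Agent.Dcoh.MonCat Groth.Agent.Dcoh.ModD

namespace K884.Shift

open Groth.Agent.Dcoh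

variable {X Y S : Scheme.{u}}

lemma nonempty_lpull (f : X ⟶ Y) [DCoh.HasLpull f] (A : DCoh.D Y) (n : ℤ) :
    Nonempty ((DCoh.Lpull f).obj (A⟦n⟧) ≅ ((DCoh.Lpull f).obj A)⟦n⟧) := by
  let _ := DerPull.lpullCommShift f
  exact ⟨((DCoh.Lpull f).commShiftIso n).app A⟩

lemma nonempty_rpush (f : X ⟶ Y) [DCoh.HasRpush f] (A : DCoh.D X) (n : ℤ) :
    Nonempty ((DCoh.Rpush f).obj (A⟦n⟧) ≅ ((DCoh.Rpush f).obj A)⟦n⟧) := by
  let _ := DerSch.rpushCommShift f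
  exact ⟨((DCoh.Rpush f).commShiftIso n).app A⟩

/-- `B ⊗ A⟦n⟧ ≅ (B ⊗ A)⟦n⟧`. -/
lemma nonempty_tensor_right (B A : DCoh.D X) (n : ℤ) : Nonempty (B ⊗ A⟦n⟧ ≅ (B ⊗ A)⟦n⟧) := by
  obtain ⟨e⟩ := Groth.Agent.Dual.H492.TensShift.nonempty_shift A n
  obtain ⟨e'⟩ := Calc.nonempty_braid A B
  exact ⟨e.app B ≪≫ (shiftFunctor _ n).mapIso e'⟩

/-- `A⟦n⟧ ⊗ B ≅ (A ⊗ B)⟦n⟧`. -/
lemma nonempty_tensor_left (A B : DCoh.D X) (n : ℤ) : Nonempty (A⟦n⟧ ⊗ B ≅ (A ⊗ B)⟦n⟧) := by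
  obtain ⟨e1⟩ := Calc.nonempty_braid (A⟦n⟧) B
  obtain ⟨e2⟩ := nonempty_tensor_right B A n
  obtain ⟨e3⟩ := Calc.nonempty_braid B A
  exact ⟨e1 ≪≫ e2 ≪≫ (shiftFunctor _ n).mapIso e3⟩

lemma nonempty_LTensorCx (E : CochainComplex X.Modules ℤ) [DCoh.HasLTensorCx E] (A : DCoh.D X)
    (n : ℤ) : Nonempty ((DCoh.LTensorCx E).obj (A⟦n⟧) ≅ ((DCoh.LTensorCx E).obj A)⟦n⟧) := by
  obtain ⟨e⟩ := nonempty_tensor_left A (DCoh.toD X E) n
  exact ⟨(Calc.ltIso E).app _ ≪≫ e ≪≫ (shiftFunctor _ n).mapIso ((Calc.ltIso E).app A).symm⟩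

/-- Kernel functors commute with shifts. -/
theorem nonempty_phi (a : X ⟶ S) (b : Y ⟶ S) (P : CochainComplex (pullback a b).Modules ℤ)
    [DCoh.HasLpull (pullback.fst a b)] [DCoh.HasLTensorCx P] [DCoh.HasRpush (pullback.snd a b)]
    (A : DCoh.D X) (n : ℤ) :
    Nonempty ((FMK.phi a b P).obj (A⟦n⟧) ≅ ((FMK.phi a b P).obj A)⟦n⟧) := by
  obtain ⟨e1⟩ := nonempty_lpull (pullback.fst a b) A n
  obtain ⟨e2⟩ := nonempty_LTensorCx P ((DCoh.Lpull (pullback.fst a b)).obj A) n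
  obtain ⟨e3⟩ := nonempty_rpush (pullback.snd a b)
    ((DCoh.LTensorCx P).obj ((DCoh.Lpull (pullback.fst a b)).obj A)) n
  exact ⟨(DCoh.Rpush (pullback.snd a b)).mapIso ((DCoh.LTensorCx P).mapIso e1 ≪≫ e2) ≪≫ e3⟩

/-- Cohomology sheaves of shifts. -/
lemma nonempty_HD (A : DCoh.D X) (n i j : ℤ) (h : n + i = j) :
    Nonempty (DCoh.HD (A⟦n⟧) i ≅ DCoh.HD A j) :=
  ⟨((DerivedCategory.homologyFunctor X.Modules 0).shiftIso n i j h).app A⟩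

end K884.Shift
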