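import Groth.Agent.FMK.K884.SerreLem
import Groth.Agent.FMK.K884.Shift
import Groth.Agent.FMK.K884.DualP
import Groth.Agent.FMK.K884.Ker
import Groth.Agent.FMK.K884.RGam
import Groth.Agent.FMK.K884.Gv
import Groth.Agent.S3637
import Groth.Agent.S1002

/-!
# Maps to the dualizing object and hypercohomology over a field

* `isZero_of_maps`: a perfect object `V` of `D(Spec k)` with no nonzero maps to `O` has `H^0(V) = 0`.
* `isZero_RΓ_of_maps`: for `Y` proper over `k` and `A` perfect, if there are no nonzero maps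
  `A[m] → b^× O` then `H^m(Y, A) = 0`.
-/

set_option autoImplicit false

universe u

open CategoryTheory CategoryTheory.Limits MonoidalCategory AlgebraicGeometry

attribute [local instance] HasDerivedCategory.standard

open scoped Groth.Agent.Dcoh.MonCat Groth.Agent.Dcoh.ModD

namespace K884.FieldDual

open Groth.Agent.Dcoh Groth.Agent.Cohder.RelPCMon Groth.Agent.PerfA.ExtZero Groth.Agent.PerfA.Hyp1
  Groth.Agent.PerfB.TensD Groth.Agent.CohtopB Groth.Agent.PerfB.SecGamma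

variable {X Y : Scheme.{u}}

/-- Maps from `P_i` are maps from the unit to the shift. -/
lemma forall_P_iff_unit (D : DCoh.D X) (i : ℤ) :
    (∀ φ : P i (⊤ : X.Opens) ⟶ D, φ = 0) ↔ ∀ φ : 𝟙_ (DCoh.D X) ⟶ D⟦i⟧, φ = 0 := by
  rw [SerreLem.forall_P_iff]
  let e : (DerivedCategory.singleFunctor X.Modules 0).obj (OU (⊤ : X.Opens)) ≅ 𝟙_ (DCoh.D X) :=
    (DerivedCategory.singleFunctor X.Modules 0).mapIso
      (Groth.Agent.PerfA.UnitOU.unitIsoOU X).symm ≪≫ DualX.unitIso X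
  constructor
  · intro h φ
    have := h (e.hom ≫ φ)
    rwa [← cancel_epi e.hom, comp_zero]
  · intro h φ
    have := h (e.inv ≫ φ)
    rwa [← cancel_epi e.inv, comp_zero]

/-- Maps to the unit are sections of the dual. -/
lemma maps_unit_iff {V V' : DCoh.D X} (h : DualP.IsDual V' V)
    (h0 : ∀ φ : V ⟶ 𝟙_ (DCoh.D X), φ = 0) (φ : 𝟙_ (DCoh.D X) ⟶ V') : φ = 0 := by
  obtain ⟨h⟩ := h
  let adj : tensorLeft V ⊣ tensorLeft V' := tensorLeftAdjunction V' V
  have h1 : ∀ ψ : (tensorLeft V).obj (𝟙_ (DCoh.D X)) ⟶ 𝟙_ (DCoh.D X), ψ = 0 := by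
    intro ψ
    have := h0 ((ρ_ V).inv ≫ ψ)
    rwa [← cancel_epi (ρ_ V).inv, comp_zero]
  have h2 : ∀ ψ : 𝟙_ (DCoh.D X) ⟶ (tensorLeft V').obj (𝟙_ (DCoh.D X)), ψ = 0 := by
    intro ψ
    apply (adj.homEquiv _ _).symm.injective
    rw [h1 ((adj.homEquiv _ _).symm ψ)]
    exact (h1 _).symm
  have := h2 (φ ≫ (ρ_ V').inv)
  rwa [← cancel_mono (ρ_ V').inv, zero_comp]

variable {k : Type u} [Field k]

/-- Over a field, the fibre vanishing is the vanishing of the cohomology. -/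
lemma fibZero_of_isZero (V : DCoh.D (Spec (CommRingCat.of k))) (i : ℤ)
    (h : IsZero (DCoh.HD V i)) (y : ↥(Spec (CommRingCat.of k))) : Fib.FibZero V y i := by
  have := Groth.Agent.Dcoh.DerPull.hasLpull ((Spec (CommRingCat.of k)).fromSpecResidueField y)
  have : Flat ((Spec (CommRingCat.of k)).fromSpecResidueField y) := Ker.flat_of_field _
  rw [Fib.fibZero_iff]
  exact ((Scheme.Modules.pullback _).map_isZero h).of_iso
    (Groth.Agent.PerfB.FlatPull.HDLpull ((Spec (CommRingCat.of k)).fromSpecResidueField y) V i)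

/-- A perfect object `V` of `D(Spec k)` with no nonzero maps to `O` has `H^0(V) = 0`. -/
theorem isZero_of_maps {V : DCoh.D (Spec (CommRingCat.of k))} (hV : DCoh.IsPerfect V)
    (h : ∀ φ : V ⟶ 𝟙_ (DCoh.D (Spec (CommRingCat.of k))), φ = 0) : IsZero (DCoh.HD V 0) := by
  obtain ⟨V', hV', hd⟩ := DualP.exists_dual hV
  have hΓ : DCoh.HasRΓ (Spec (CommRingCat.of k)) := RGam.hasRΓ _
  have h1 : IsZero (DCoh.HD V' 0) := by
    rw [← HypG.isZero_RΓ_iff_HD V' (Groth.Agent.PerfA.QCohD.isQCohD_of_isPerfect _ hV') 0,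
      HypG.isZero_RΓ_iff, forall_P_iff_unit]
    intro φ
    have h2 := maps_unit_iff (hd.swap hV) h
      (φ ≫ (shiftFunctorZero (DCoh.D (Spec (CommRingCat.of k))) ℤ).hom.app V')
    rwa [← cancel_mono ((shiftFunctorZero (DCoh.D (Spec (CommRingCat.of k))) ℤ).hom.app V'), zero_comp]
  refine Fib.isZero_HD_of_fibZero hV 0 fun y => ?_
  have h2 := (hd.fibZero_iff hV y 0).1 (fibZero_of_isZero V' 0 h1 y)
  rwa [neg_zero] at h2

/-- `Y` proper over `k`, `A` perfect: no nonzero maps `A[m] → b^× O` implies `H^m(Y, A) = 0`. -/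
theorem isZero_RΓ_of_maps (b : Y ⟶ Spec (CommRingCat.of k)) [IsProper b]
    [DCoh.HasRpush b] (hb : DCoh.RpushPreservesQCoh b)
    (bdx : DCoh.DQCoh (Spec (CommRingCat.of k)) ⥤ DCoh.DQCoh Y) (adj : DCoh.RpushQ b hb ⊣ bdx)
    (O : DCoh.DQCoh (Spec (CommRingCat.of k)))
    (hO : Nonempty (O.obj ≅ DCoh.inD (Spec (CommRingCat.of k)) (Coh.structureModule (Spec (CommRingCat.of k)))))
    [DCoh.HasRΓ Y] (A : DCoh.D Y) (hA : DCoh.IsPerfect A) (m : ℤ)
    (h : ∀ φ : A⟦m⟧ ⟶ (bdx.obj O).obj, φ = 0) :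
    IsZero ((DerivedCategory.homologyFunctor AddCommGrpCat.{u} m).obj ((DCoh.RΓ Y).obj A)) := by
  obtain ⟨eO⟩ := hO
  have := Ker.flat_of_field b
  have := Ker.lfp_of_lft b
  have hΓ : DCoh.HasRΓ (Spec (CommRingCat.of k)) := RGam.hasRΓ _
  have hAm : DCoh.IsPerfect (A⟦m⟧) := Groth.Agent.PerfA.PerfLocal.isPerfect_shift hA m
  have hQ : DCoh.IsQCohD (A⟦m⟧) := Groth.Agent.PerfA.QCohD.isQCohD_of_isPerfect _ hAm
  have hV : DCoh.IsPerfect ((DCoh.Rpush b).obj (A⟦m⟧)) := Groth.Agent.S1002.result b _ hAm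
  have h1 : ∀ φ : (DCoh.Rpush b).obj (A⟦m⟧) ⟶ 𝟙_ (DCoh.D (Spec (CommRingCat.of k))), φ = 0 := by
    intro φ
    let e1 : O.obj ≅ 𝟙_ (DCoh.D (Spec (CommRingCat.of k))) := eO ≪≫ DualX.unitIso _
    let ψ : (DCoh.RpushQ b hb).obj ⟨A⟦m⟧, hQ⟩ ⟶ O := ObjectProperty.homMk (φ ≫ e1.inv)
    have h2 : ψ = 0 := by
      apply (adj.homEquiv _ _).injective
      apply ObjectProperty.hom_ext
      exact (h _).trans (h _).symm
    have h3 : φ ≫ e1.inv = 0 := congrArg (fun t => t.hom) h2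
    rwa [← cancel_mono e1.inv, zero_comp]
  have h2 := isZero_of_maps hV h1
  obtain ⟨c⟩ := RGam.nonempty_rpush_RΓ b
  obtain ⟨s⟩ := Shift.nonempty_rpush b A m
  obtain ⟨t⟩ := Shift.nonempty_HD ((DCoh.Rpush b).obj A) m 0 m (by lia)
  refine IsZero.of_iso ?_ ((DerivedCategory.homologyFunctor AddCommGrpCat.{u} m).mapIso
    (c.app A).symm)
  refine (HypG.isZero_RΓ_iff_HD _ (hb _ (Groth.Agent.PerfA.QCohD.isQCohD_of_isPerfect _ hA)) m).2 ?_
  exact h2.of_iso (t.symm ≪≫ (DerivedCategory.homologyFunctor _ 0).mapIso s.symm)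

end K884.FieldDual
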