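import Groth.Agent.FMK.K884.GradeVan
import Groth.Agent.CycB.CohStalk

/-!
# Depth of Cohen-Macaulay modules with full support
-/

set_option autoImplicit false

universe u

open CategoryTheory CategoryTheory.Limits AlgebraicGeometry

attribute [local instance] HasDerivedCategory.standard

namespace K884.FullSupp

lemma isNilpotent_of_smul_eq_zero {R : Type u} [CommRing R] (N : Type u) [AddCommGroup N]
    [Module R N] [Module.Finite R N] (h : Module.support R N = Set.univ) (q : Ideal R) [q.IsPrime]
    (x : Localization.AtPrime q)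
    (hx : ∀ m : LocalizedModule q.primeCompl N, x • m = 0) : IsNilpotent x := by
  obtain ⟨r, s, rfl⟩ := IsLocalization.exists_mk'_eq q.primeCompl x
  have h1 : ∀ n : N, ∃ t : R, t ∉ q ∧ t • r • n = 0 := by
    intro n
    have h2 := hx (LocalizedModule.mk n 1)
    have h3 : LocalizedModule.mk (r • n) (s * 1) = (LocalizedModule.mk 0 (1 : q.primeCompl) :
        LocalizedModule q.primeCompl N) := by
      rw [LocalizedModule.zero_mk]
      rw [← Localization.mk_eq_mk'] at h2
      exact (LocalizedModule.mk_smul_mk r n s 1).symm.trans h2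
    rw [LocalizedModule.mk_eq] at h3
    replace h2 := h3
    obtain ⟨t, ht⟩ := h2
    refine ⟨t, t.2, ?_⟩
    rw [one_smul, smul_zero, smul_zero] at ht
    exact ht
  let f : N →ₗ[R] N := LinearMap.lsmul R N r
  have h3 : (⟨q, inferInstance⟩ : PrimeSpectrum R) ∉ Module.support R (LinearMap.range f) := by
    rw [Module.notMem_support_iff']
    rintro ⟨_, ⟨n, rfl⟩⟩
    obtain ⟨t, ht, h4⟩ := h1 n
    exact ⟨t, ht, Subtype.ext h4⟩
  rw [Module.support_eq_zeroLocus] at h3
  obtain ⟨t, ht, htq⟩ : ∃ t ∈ Module.annihilator R (LinearMap.range f), t ∉ q := by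
    by_contra hcon
    push Not at hcon
    exact h3 hcon
  have h5 : t * r ∈ Module.annihilator R N := by
    rw [Module.mem_annihilator]
    intro n
    rw [mul_smul]
    have := Module.mem_annihilator.1 ht ⟨f n, ⟨n, rfl⟩⟩
    exact congrArg Subtype.val this
  have h6 : t * r ∈ nilradical R := by
    rw [Module.support_eq_zeroLocus, PrimeSpectrum.zeroLocus_eq_univ_iff] at h
    exact h h5
  have h7 : IsNilpotent (algebraMap R (Localization.AtPrime q) (t * r)) :=
    IsNilpotent.map (mem_nilradical.1 h6) (algebraMap R (Localization.AtPrime q))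
  have ht' : IsUnit (algebraMap R (Localization.AtPrime q) t) :=
    IsLocalization.map_units (Localization.AtPrime q) (⟨t, htq⟩ : q.primeCompl)
  rw [map_mul] at h7
  have h8 : IsNilpotent (algebraMap R (Localization.AtPrime q) r) := by
    obtain ⟨u, hu⟩ := ht'
    have h9 := (Commute.all (↑u⁻¹ : Localization.AtPrime q)
      (algebraMap R (Localization.AtPrime q) t * algebraMap R (Localization.AtPrime q) r)).isNilpotent_mul_left h7
    rwa [← mul_assoc, ← hu, Units.inv_mul, one_mul] at h9
  rw [IsLocalization.mk'_eq_mul_mk'_one]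
  exact (Commute.all _ _).isNilpotent_mul_right h8

lemma supportDim_eq {S : Type u} [CommRing S] (M : Type u) [AddCommGroup M] [Module S M]
    [Module.Finite S M] (h : ∀ x : S, (∀ m : M, x • m = 0) → IsNilpotent x) :
    Module.supportDim S M = ringKrullDim S := by
  have h1 : Module.support S M = Set.univ := by
    rw [Module.support_eq_zeroLocus, PrimeSpectrum.zeroLocus_eq_univ_iff]
    intro x hx
    exact mem_nilradical.2 (h x (Module.mem_annihilator.1 hx))
  change Order.krullDim (Module.support S M) = ringKrullDim S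
  rw [h1]
  exact Order.krullDim_eq_of_orderIso OrderIso.Set.univ

/-- A coherent module all of whose stalks are nonzero Cohen-Macaulay modules has maximal depth. -/
theorem le_depth {X : Scheme.{u}} [IsLocallyNoetherian X] (M : X.Modules) (hM : Coh.IsCoh M)
    (hM1 : ∀ x : X, Nontrivial (M.presheaf.stalk x)) (x : X)
    (hcm : LocCoh.IsCohenMacaulayModule (X.presheaf.stalk x) (M.presheaf.stalk x)) (n : ℕ)
    (hn : (n : WithBot ℕ∞) ≤ ringKrullDim (X.presheaf.stalk x)) :
    (n : ℕ∞) ≤ LocCoh.depth (X.presheaf.stalk x) (M.presheaf.stalk x) := by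
  obtain ⟨U, hU, hxU, -⟩ := exists_isAffineOpen_mem_and_subset (x := x) (U := ⊤) trivial
  have hR : IsNoetherianRing Γ(X, U) := IsLocallyNoetherian.component_noetherian ⟨U, hU⟩
  have hq : x ∈ Set.range hU.fromSpec := by
    rw [hU.range_fromSpec]
    exact hxU
  obtain ⟨q, rfl⟩ := hq
  let j := hU.fromSpec
  obtain ⟨N, hN, ⟨eN⟩⟩ := Groth.Agent.Fcompl.H553.EssSurj.exists_tilde_coh _
    (Groth.Agent.PerfA.CohSerre.isCoh_restrict j hM)
  have hsupp : Module.support Γ(X, U) N = Set.univ := by
    refine Set.eq_univ_of_forall fun p => ?_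
    refine (GradeVan.mem_support_iff Γ(X, U) j M N eN.symm p).1 ?_
    change ¬ Subsingleton _
    rw [not_subsingleton_iff_nontrivial]
    exact hM1 _
  obtain ⟨σ, τ, hστ⟩ := Groth.Agent.Dual.H342.StalkChart.exists_semilinear Γ(X, U) j M N eN.symm q
  have hfin := Groth.Agent.CycB.CohStalk.finite_stalk M hM (j q)
  have h1 : Module.supportDim (X.presheaf.stalk (j q)) (M.presheaf.stalk (j q)) =
      ringKrullDim (X.presheaf.stalk (j q)) := by
    refine supportDim_eq _ fun x hx => ?_
    have h2 : IsNilpotent (σ.symm x) := by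
      refine isNilpotent_of_smul_eq_zero N hsupp _ _ fun m => ?_
      apply τ.injective
      rw [hστ, σ.apply_symm_apply, map_zero]
      exact hx _
    have h3 := h2.map σ
    rwa [σ.apply_symm_apply] at h3
  rw [← h1, hcm] at hn
  exact_mod_cast hn

end K884.FullSupp
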