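import Groth.Agent.FMK.K884.FieldDual
import Groth.Agent.FMK.K884.TensVan
import Groth.Agent.FMK.K884.Exch
import Groth.Agent.Dcoh.PerfTens
import Groth.Agent.Ega2.VeryAmpleAmple
import Groth.Agent.VarietyA.AmpleNegPow

/-!
# The converse of duality: vanishing against negative twists

For `K` perfect on `Y` proper, Cohen-Macaulay and equidimensional of dimension `g` over a field, the vanishing of
`H^j(Y, K ⊗ L^{-n} ⊗ ω)` for `n ≫ 0` gives the vanishing of `H^{g-j}(K^∨)`.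
-/

set_option autoImplicit false

universe u

open CategoryTheory CategoryTheory.Limits MonoidalCategory AlgebraicGeometry

attribute [local instance] HasDerivedCategory.standard

open scoped Groth.Agent.Dcoh.MonCat Groth.Agent.Dcoh.ModD

namespace K884.InvAmple

open Groth.Agent.Dcoh Groth.Agent.Cohder.RelPCMon Groth.Agent.PerfA.ExtZero Groth.Agent.PerfA.Hyp1
  Groth.Agent.PerfB.TensD Groth.Agent.CohtopB Groth.Agent.PerfB.SecGamma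

variable {X Y Z : Scheme.{u}}

lemma zero_whiskerRight {A W M : DCoh.D X} (hM : DCoh.IsPerfect M) :
    (0 : A ⟶ W) ▷ M = 0 := by
  obtain ⟨M', -, ⟨h⟩⟩ := DualP.exists_dual hM
  have h1 : (tensorRight M).IsLeftAdjoint := ⟨_, ⟨tensorRightAdjunction M M'⟩⟩
  have h2 : (tensorRight M).PreservesZeroMorphisms := inferInstance
  exact (tensorRight M).map_zero _ _

/-- Tensoring with an invertible object is faithful. -/
lemma eq_zero_of_whiskerRight {A W M N : DCoh.D X} (hN : DCoh.IsPerfect N)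
    (e : M ⊗ N ≅ 𝟙_ (DCoh.D X)) (φ : A ⟶ W) (h : φ ▷ M = 0) : φ = 0 := by
  have h1 : φ ▷ (M ⊗ N) = 0 := by
    rw [MonoidalCategory.whiskerRight_tensor, h, zero_whiskerRight hN, zero_comp, comp_zero]
  have h2 : φ ▷ 𝟙_ (DCoh.D X) = 0 := by
    have : φ ▷ 𝟙_ (DCoh.D X) = A ◁ e.inv ≫ φ ▷ (M ⊗ N) ≫ W ◁ e.hom := by
      rw [← whisker_exchange, ← MonoidalCategory.whiskerLeft_comp_assoc, e.inv_hom_id]
      simp
    rw [this, h1, zero_comp, comp_zero]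
  have h3 : φ = (ρ_ A).inv ≫ φ ▷ 𝟙_ (DCoh.D X) ≫ (ρ_ W).hom := by simp
  rw [h3, h2, zero_comp, comp_zero]

/-- Duality and twisting. -/
theorem maps_zero {K K' : DCoh.D X} (h : DualP.IsDual K K') {M N : DCoh.D X}
    (hN : DCoh.IsPerfect N) (e : M ⊗ N ≅ 𝟙_ (DCoh.D X))
    (W : DCoh.D X) (j : ℤ) (hvan : ∀ φ : 𝟙_ (DCoh.D X) ⟶ (K ⊗ (M ⊗ W))⟦j⟧, φ = 0)
    (φ : (K' ⊗ N)⟦-j⟧ ⟶ W) : φ = 0 := by
  obtain ⟨hp⟩ := h
  let adj : tensorLeft K' ⊣ tensorLeft K := tensorLeftAdjunction K K'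
  obtain ⟨s⟩ := Shift.nonempty_tensor_right K' (𝟙_ (DCoh.D X)) (-j)
  -- maps `1[-j] → K ⊗ (M ⊗ W)`
  have h1 : ∀ ψ : (𝟙_ (DCoh.D X))⟦-j⟧ ⟶ K ⊗ (M ⊗ W), ψ = 0 := by
    intro ψ
    have h2 := hvan ((shiftNegShift _ j).inv ≫ (shiftFunctor (DCoh.D X) j).map ψ)
    rw [← cancel_epi (shiftNegShift _ j).hom, Iso.hom_inv_id_assoc, comp_zero] at h2
    exact (shiftFunctor (DCoh.D X) j).map_injective (h2.trans (Functor.map_zero _ _ _).symm)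
  -- maps `K'[-j] → M ⊗ W`
  have h2 : ∀ ψ : K'⟦-j⟧ ⟶ M ⊗ W, ψ = 0 := by
    intro ψ
    let t : K' ⊗ (𝟙_ (DCoh.D X))⟦-j⟧ ≅ K'⟦-j⟧ := s ≪≫ (shiftFunctor _ (-j)).mapIso (ρ_ K')
    have h3 : ∀ χ : (tensorLeft K').obj ((𝟙_ (DCoh.D X))⟦-j⟧) ⟶ M ⊗ W, χ = 0 := by
      intro χ
      apply (adj.homEquiv _ _).injective
      exact (h1 _).trans (h1 _).symm
    have h4 := h3 (t.hom ≫ ψ)
    rwa [← cancel_epi t.hom, comp_zero]
  apply eq_zero_of_whiskerRight hN e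
  obtain ⟨s1⟩ := Shift.nonempty_tensor_left (K' ⊗ N) M (-j)
  obtain ⟨s2⟩ := Calc.nonempty_braid N M
  obtain ⟨s3⟩ := Calc.nonempty_braid W M
  let t : (K' ⊗ N)⟦-j⟧ ⊗ M ≅ K'⟦-j⟧ := s1 ≪≫ (shiftFunctor _ (-j)).mapIso
    (α_ K' N M ≪≫ whiskerLeftIso _ (s2 ≪≫ e) ≪≫ ρ_ K')
  have h3 := h2 (t.inv ≫ φ ▷ M ≫ s3.hom)
  rw [← cancel_epi t.inv, ← cancel_mono s3.hom, Category.assoc, h3, comp_zero, zero_comp]

/-- An inverse of an invertible module is invertible. -/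
theorem isInvertible_of_inv {L L' : X.Modules} (hL : PicF.IsInvertible L)
    (e : CohB1.tensorMod L L' ≅ Coh.structureModule X) : PicF.IsInvertible L' := by
  obtain ⟨L'', hL'', ⟨e'⟩⟩ := Groth.Agent.Grpsch.PicGrp.exists_inverse hL
  let i : L'' ≅ L' := (Groth.Agent.Ega2.Tens.runit L'').symm ≪≫
    Groth.Agent.Ega2.Tens.mapTIso (Iso.refl _) e.symm ≪≫
    (Groth.Agent.Ega2.Tens.assoc _ _ _).symm ≪≫
    Groth.Agent.Ega2.Tens.mapTIso (Groth.Agent.Ega2.Tens.swap _ _ ≪≫ e') (Iso.refl _) ≪≫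
    Groth.Agent.Ega2.Tens.lunit _
  exact Groth.Agent.Ega2.VeryAmpleAmple.isInvertible_of_iso i hL''

/-- Exchange with a quasi-coherent object on `Y`. -/
theorem nonempty_exchQ (p : Z ⟶ X) (q : Z ⟶ Y) [QuasiCompact q] [QuasiSeparated q] [DCoh.HasRpush p]
    [DCoh.HasRpush q] [DCoh.HasLpull p] [DCoh.HasLpull q] [DCoh.HasRΓ X] [DCoh.HasRΓ Y]
    (P : CochainComplex Z.Modules ℤ) [DCoh.HasLTensorCx P] (hP : DCoh.IsPerfect (DCoh.toD Z P))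
    (E : CochainComplex X.Modules ℤ) [DCoh.HasLTensorCx E]
    (hE : DCoh.IsPerfect (DCoh.toD X E)) (F : DCoh.D Y) (hF : DCoh.IsQCohD F) :
    Nonempty ((DCoh.RΓ X).obj ((DCoh.LTensorCx E).obj ((DCoh.Rpush p).obj
        ((DCoh.LTensorCx P).obj ((DCoh.Lpull q).obj F)))) ≅
      (DCoh.RΓ Y).obj ((DCoh.Rpush q).obj
        ((DCoh.LTensorCx P).obj ((DCoh.Lpull p).obj (DCoh.toD X E))) ⊗ F)) := by
  have hZ := RGam.hasRΓ Z
  obtain ⟨a⟩ := Calc.nonempty_proj p (DCoh.toD X E) hE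
  have hq : DCoh.IsQCohD ((DCoh.LTensorCx P).obj ((DCoh.Lpull p).obj (DCoh.toD X E))) :=
    Groth.Agent.PerfA.QCohD.isQCohD_of_isPerfect _
      (Groth.Agent.PerfA.TensPerf.isPerfect_LTensorCx P hP _ (Groth.Agent.S0921.result p _ hE))
  obtain ⟨b⟩ := TensVan.nonempty_projQ q _ hq F hF
  obtain ⟨c⟩ := RGam.nonempty_rpush_RΓ p
  obtain ⟨d⟩ := RGam.nonempty_rpush_RΓ q
  obtain ⟨s1⟩ := Calc.nonempty_braid ((DCoh.Lpull q).obj F ⊗ DCoh.toD Z P)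
    ((DCoh.Lpull p).obj (DCoh.toD X E))
  obtain ⟨s2⟩ := Calc.nonempty_braid ((DCoh.Lpull q).obj F) (DCoh.toD Z P)
  exact ⟨(DCoh.RΓ X).mapIso ((Calc.ltIso E).app _ ≪≫
      (tensorRight (DCoh.toD X E)).mapIso ((DCoh.Rpush p).mapIso ((Calc.ltIso P).app _)) ≪≫
      a.app _) ≪≫ c.app _ ≪≫ (DCoh.RΓ Z).mapIso
    (s1 ≪≫ whiskerLeftIso _ s2 ≪≫ (α_ _ _ _).symm ≪≫
      whiskerRightIso ((Calc.ltIso P).app _).symm _) ≪≫ (d.app _).symm ≪≫
    (DCoh.RΓ Y).mapIso b.symm⟩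

/-- An object with cohomology only in degree `n`. -/
lemma nonempty_iso_shift (D : DCoh.D X) (n : ℤ) (h : ∀ i, i ≠ -n → IsZero (DCoh.HD D i)) :
    Nonempty (D ≅ (DCoh.inD X (DCoh.HD D (-n)))⟦n⟧) := by
  have h1 : D.IsGE (-n) := by
    rw [DerivedCategory.isGE_iff]; exact fun i hi => h i (by lia)
  have h2 : D.IsLE (-n) := by
    rw [DerivedCategory.isLE_iff]; exact fun i hi => h i (by lia)
  obtain ⟨M, ⟨e⟩⟩ := DerivedCategory.exists_iso_singleFunctor_obj_of_isGE_of_isLE D (-n)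
  let t : DCoh.D X ⥤ DCoh.D X := shiftFunctor _ n
  let e1 : DCoh.HD D (-n) ≅ M := (DerivedCategory.homologyFunctor _ (-n)).mapIso e ≪≫
    (DerivedCategory.singleFunctorCompHomologyFunctorIso X.Modules (-n)).app M
  have e2 : (DerivedCategory.singleFunctor X.Modules (-n)).obj M ≅
      ((DerivedCategory.singleFunctor X.Modules 0).obj M)⟦n⟧ :=
    (((DerivedCategory.singleFunctors X.Modules).shiftIso n (-n) 0 (by lia)).app M).symm
  exact ⟨e ≪≫ e2 ≪≫ (shiftFunctor _ n).mapIso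
    ((DerivedCategory.singleFunctor X.Modules 0).mapIso e1.symm)⟩

variable {k : Type u} [Field k]

/-- Vanishing against `L^{-n} ⊗ ω` gives the vanishing of the cohomology sheaves of the dual. -/
theorem isZero_HD_dual (b : Y ⟶ Spec (CommRingCat.of k)) [IsProper b]
    (hYcm : ∀ y : ↥Y, LocCoh.IsCohenMacaulayLocalRing ↑(Y.presheaf.stalk y)) (g : ℕ)
    (hYeq : ∀ Z ∈ irreducibleComponents ↥Y, topologicalKrullDim ↥Z = (g : WithBot ℕ∞))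
    [DCoh.HasRpush b] (hb : DCoh.RpushPreservesQCoh b)
    (bdx : DCoh.DQCoh (Spec (CommRingCat.of k)) ⥤ DCoh.DQCoh Y) (adj : DCoh.RpushQ b hb ⊣ bdx)
    (O : DCoh.DQCoh (Spec (CommRingCat.of k)))
    (hO : Nonempty (O.obj ≅ DCoh.inD (Spec (CommRingCat.of k)) (Coh.structureModule (Spec (CommRingCat.of k)))))
    (L L' : Y.Modules) (hL : CohB1.IsAmple L) (hLL' : Nonempty (CohB1.tensorMod L L' ≅ Coh.structureModule Y))
    [DCoh.HasRΓ Y] {K K' : DCoh.D Y} (hK : DCoh.IsPerfect K) (h : DualP.IsDual K K') (S : Set ℤ)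
    (hvan : ∃ n₀ : ℕ, ∀ n : ℕ, n₀ ≤ n → ∀ j : ℤ, (g : ℤ) - j ∈ S →
      IsZero ((DerivedCategory.homologyFunctor AddCommGrpCat.{u} j).obj ((DCoh.RΓ Y).obj
        (K ⊗ DCoh.inD Y (CohB1.tensorMod (CohB1.tensorPow L' n) (DCoh.HD (bdx.obj O).obj (-(g : ℤ))))))))
    (m : ℤ) (hm : m ∈ S) : IsZero (DCoh.HD K' m) := by
  have hY : IsNoetherian Y := Exch.isNoetherian_of_proper b
  have hK' := h.isPerfect hK
  obtain ⟨hc, lo, hi, hlo, hhi⟩ := Groth.Agent.S1006.result Y _ hK'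
  obtain ⟨n₁, hn₁⟩ := SerreLem.exists_bound b L hL K' lo hi hc
  obtain ⟨n₀, hn₀⟩ := hvan
  have hv := hn₀ (max n₀ n₁) (le_max_left _ _)
  rw [← hn₁ (max n₀ n₁) (le_max_right _ _) m]
  generalize max n₀ n₁ = n at hv ⊢
  obtain ⟨h1, h2, -⟩ := Groth.Agent.S3637.result k Y b hYcm g hYeq hb bdx adj O hO
  obtain ⟨eb⟩ := nonempty_iso_shift (bdx.obj O).obj g h1
  have hB := Exch.isFinLocFree_tensorPow hL.1 n
  obtain ⟨eL⟩ := hLL'
  have hB' := Exch.isFinLocFree_tensorPow (isInvertible_of_inv hL.1 eL) n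
  have hN := Groth.Agent.PerfA.PerfLocal.isPerfect_inD_of_isFinLocFree hB
  obtain ⟨s1⟩ := Flt.nonempty_tensor_inD (CohB1.tensorPow L n) (CohB1.tensorPow L' n)
    (Spread.isFlat_of_isFinLocFree hB)
  obtain ⟨s2⟩ := Flt.nonempty_tensor_inD (CohB1.tensorPow L' n) (DCoh.HD (bdx.obj O).obj (-(g : ℤ)))
    (Spread.isFlat_of_isFinLocFree hB')
  obtain ⟨s3⟩ := Calc.nonempty_braid (DCoh.inD Y (CohB1.tensorPow L' n))
    (DCoh.inD Y (CohB1.tensorPow L n))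
  let e : DCoh.inD Y (CohB1.tensorPow L' n) ⊗ DCoh.inD Y (CohB1.tensorPow L n) ≅ 𝟙_ (DCoh.D Y) :=
    s3 ≪≫ s1 ≪≫ (DerivedCategory.singleFunctor Y.Modules 0).mapIso
      (Groth.Agent.VarietyA.AmpleNegPow.powInv eL n) ≪≫ DualX.unitIso Y
  have hA : DCoh.IsPerfect (K' ⊗ DCoh.inD Y (CohB1.tensorPow L n)) := by
    exact PerfTens.isPerfect_tensor hK' hN
  have key : ∀ φ : (K' ⊗ DCoh.inD Y (CohB1.tensorPow L n))⟦-((g : ℤ) - m)⟧ ⟶
      DCoh.inD Y (DCoh.HD (bdx.obj O).obj (-(g : ℤ))), φ = 0 := by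
    refine maps_zero h hN e _ ((g : ℤ) - m) ?_
    intro φ
    have h3 := hv ((g : ℤ) - m) (by rwa [sub_sub_cancel])
    rw [HypG.isZero_RΓ_iff, FieldDual.forall_P_iff_unit] at h3
    let t := (shiftFunctor (DCoh.D Y) ((g : ℤ) - m)).mapIso (whiskerLeftIso K s2)
    have h4 := h3 (φ ≫ t.hom)
    rwa [← cancel_mono t.hom, zero_comp]
  refine FieldDual.isZero_RΓ_of_maps b hb bdx adj O hO _ hA m fun φ => ?_
  let t : ((K' ⊗ DCoh.inD Y (CohB1.tensorPow L n))⟦-((g : ℤ) - m)⟧)⟦(g : ℤ)⟧ ≅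
      (K' ⊗ DCoh.inD Y (CohB1.tensorPow L n))⟦m⟧ :=
    ((shiftFunctorAdd' (DCoh.D Y) (-((g : ℤ) - m)) (g : ℤ) m (by lia)).app _).symm
  obtain ⟨ψ, hψ⟩ := (shiftFunctor (DCoh.D Y) (g : ℤ)).map_surjective (t.hom ≫ φ ≫ eb.hom)
  rw [key ψ, Functor.map_zero] at hψ
  rw [← cancel_epi t.hom, ← cancel_mono eb.hom, Category.assoc, ← hψ, comp_zero, zero_comp]

end K884.InvAmple
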