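import Groth.Agent.FMK.K884.InvAmple
import Groth.Agent.Ega1.TensorRestrict

/-!
# The GV property from vanishing against `L^{-n} ⊗ ω`
-/

set_option autoImplicit false

universe u

open CategoryTheory CategoryTheory.Limits MonoidalCategory AlgebraicGeometry

attribute [local instance] HasDerivedCategory.standard

open scoped Groth.Agent.Dcoh.MonCat Groth.Agent.Dcoh.ModD

namespace K884.InvGv

open Groth.Agent.Dcoh

variable {X Y : Scheme.{u}} {k : Type u} [Field k]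

/-- Exchange for the twist by `L^{-n} ⊗ ω`. -/
theorem isZero_exch (a : X ⟶ Spec (CommRingCat.of k)) (b : Y ⟶ Spec (CommRingCat.of k)) [IsProper a]
    (P : CochainComplex (pullback a b).Modules ℤ) (hP : DCoh.IsPerfect (DCoh.toD (pullback a b) P))
    [DCoh.HasLpull (pullback.fst a b)] [DCoh.HasLpull (pullback.snd a b)] [DCoh.HasLTensorCx P]
    [DCoh.HasRpush (pullback.fst a b)] [DCoh.HasRpush (pullback.snd a b)] [DCoh.HasRΓ X]
    [DCoh.HasRΓ Y]
    (F : CochainComplex X.Modules ℤ) (hF : DCoh.IsPerfect (DCoh.toD X F)) [DCoh.HasLTensorCx F]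
    (L' W : Y.Modules) (hL' : PicF.IsInvertible L') (hW : Coh.IsQCoh W) (n : ℕ) (j : ℤ)
    (h : IsZero ((DerivedCategory.homologyFunctor AddCommGrpCat.{u} j).obj ((DCoh.RΓ X).obj
        ((DCoh.LTensorCx F).obj ((DCoh.Rpush (pullback.fst a b)).obj ((DCoh.LTensorCx P).obj
          ((DCoh.Lpull (pullback.snd a b)).obj
          (DCoh.inD Y (CohB1.tensorMod (CohB1.tensorPow L' n) W))))))))) :
    IsZero ((DerivedCategory.homologyFunctor AddCommGrpCat.{u} j).obj ((DCoh.RΓ Y).obj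
      ((FMK.phi a b P).obj (DCoh.toD X F) ⊗ DCoh.inD Y
          (CohB1.tensorMod (CohB1.tensorPow L' n) W)))) := by
  have hG : Coh.IsQCoh (CohB1.tensorMod (CohB1.tensorPow L' n) W) :=
    Groth.Agent.Ega1.TensorRestrict.isQCoh_tensorMod _ _
      (Groth.Agent.PerfB.TensInv.isQCoh_of_isInvertible
        (Groth.Agent.Fdesc.LocGen.isInvertible_tensorPow hL' n)) hW
  obtain ⟨e⟩ := InvAmple.nonempty_exchQ (pullback.fst a b) (pullback.snd a b) P hP F hF
    (DCoh.inD Y (CohB1.tensorMod (CohB1.tensorPow L' n) W))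
    (Groth.Agent.PerfA.QCohD.isQCohD_inD _ hG)
  exact h.of_iso ((DerivedCategory.homologyFunctor AddCommGrpCat.{u} j).mapIso e.symm)

/-- From the vanishing of the cohomology of the dual to the GV property. -/
theorem gv_of_dual [IsLocallyNoetherian Y] {K K' : DCoh.D Y} (hK : DCoh.IsPerfect K)
    (hd : DualP.IsDual K K') (k' : ℕ)
    (key : ∀ m : ℤ, m ∈ {m : ℤ | m < -(k' : ℤ) ∨ 0 < m} → IsZero (DCoh.HD K' m)) :
    (∀ i : ℤ, i < 0 → IsZero (DCoh.HD K i)) ∧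
    (∀ (i : ℕ) (y : ↥Y), y ∈ CohB1.support (DCoh.HD K (i : ℤ)) →
      ((i - k' : ℕ) : WithBot ℕ∞) ≤ ringKrullDim ↑(Y.presheaf.stalk y)) := by
  have hd' := hd.swap hK
  have hK' := hd.isPerfect hK
  constructor
  · intro i hi
    exact Gv.isZero_HD_dual_of_gt hK' hd' 0 (fun m hm => key m (Or.inr hm)) i (by lia)
  · intro i y hy
    refine Gv.le_dim_of_mem_dual hK' hd' (-(k' : ℤ)) (fun m hm => key m (Or.inl hm)) y i hy
      (i - k') ?_
    rcases le_total k' i with h | h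
    · left; lia
    · right; lia

theorem gvk (a : X ⟶ Spec (CommRingCat.of k)) (b : Y ⟶ Spec (CommRingCat.of k)) [IsProper a]
    [IsProper b]
    (hYcm : ∀ y : ↥Y, LocCoh.IsCohenMacaulayLocalRing ↑(Y.presheaf.stalk y)) (g : ℕ)
    (hYeq : ∀ Z ∈ irreducibleComponents ↥Y, topologicalKrullDim ↥Z = (g : WithBot ℕ∞))
    [DCoh.HasRpush b] (hb : DCoh.RpushPreservesQCoh b)
    (bdx : DCoh.DQCoh (Spec (CommRingCat.of k)) ⥤ DCoh.DQCoh Y) (adj : DCoh.RpushQ b hb ⊣ bdx)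
    (O : DCoh.DQCoh (Spec (CommRingCat.of k)))
    (hO : Nonempty (O.obj ≅ DCoh.inD (Spec (CommRingCat.of k)) (Coh.structureModule (Spec (CommRingCat.of k)))))
    (L L' : Y.Modules) (hL : CohB1.IsAmple L) (hLL' : Nonempty (CohB1.tensorMod L L' ≅ Coh.structureModule Y))
    (P : CochainComplex (pullback a b).Modules ℤ) (hP : DCoh.IsPerfect (DCoh.toD (pullback a b) P))
    [DCoh.HasLpull (pullback.fst a b)] [DCoh.HasLpull (pullback.snd a b)] [DCoh.HasLTensorCx P]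
    [DCoh.HasRpush (pullback.fst a b)] [DCoh.HasRpush (pullback.snd a b)] [DCoh.HasRΓ X]
    (k' : ℕ) (F : CochainComplex X.Modules ℤ) (hF : DCoh.IsPerfect (DCoh.toD X F)) [DCoh.HasLTensorCx F]
    (n₀ : ℕ) (hvan : ∀ n : ℕ, n₀ ≤ n → ∀ j : ℤ, j < (g : ℤ) ∨ (g : ℤ) + k' < j →
      IsZero ((DerivedCategory.homologyFunctor AddCommGrpCat.{u} j).obj ((DCoh.RΓ X).obj
        ((DCoh.LTensorCx F).obj ((DCoh.Rpush (pullback.fst a b)).obj ((DCoh.LTensorCx P).obj
          ((DCoh.Lpull (pullback.snd a b)).obj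
          (DCoh.inD Y (CohB1.tensorMod (CohB1.tensorPow L' n)
            (DCoh.HD (bdx.obj O).obj (-(g : ℤ)))))))))))) :
    (∀ i : ℤ, i < 0 → IsZero (DCoh.HD ((FMK.phi a b P).obj (DCoh.toD X F)) i)) ∧
    (∀ (i : ℕ) (y : ↥Y), y ∈ CohB1.support (DCoh.HD ((FMK.phi a b P).obj (DCoh.toD X F)) (i : ℤ)) →
      ((i - k' : ℕ) : WithBot ℕ∞) ≤ ringKrullDim ↑(Y.presheaf.stalk y)) := by
  have hY : IsNoetherian Y := Exch.isNoetherian_of_proper b
  have hΓ : DCoh.HasRΓ Y := RGam.hasRΓ Y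
  have hK : DCoh.IsPerfect ((FMK.phi a b P).obj (DCoh.toD X F)) := Ker.isPerfect_phi a b P hP hF
  obtain ⟨K', hK', hd⟩ := DualP.exists_dual hK
  have hcoh := (Groth.Agent.S3637.result k Y b hYcm g hYeq hb bdx adj O hO).2.1
  refine gv_of_dual hK hd k' (InvAmple.isZero_HD_dual b hYcm g hYeq hb bdx adj O hO L L' hL hLL' hK hd
    {m : ℤ | m < -(k' : ℤ) ∨ 0 < m} ⟨n₀, fun n hn j hj => ?_⟩)
  obtain ⟨eL⟩ := hLL'
  refine isZero_exch a b P hP F hF L' _ (InvAmple.isInvertible_of_inv hL.1 eL) hcoh.1 n j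
    (hvan n hn j ?_)
  rcases hj with h | h
  · right; lia
  · left; lia

end K884.InvGv
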