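import Groth.Agent.S0604
import Groth.Agent.Dcoh.BddCx
import Mathlib.RingTheory.Nakayama
import Mathlib.Algebra.Category.ModuleCat.Projective
import Mathlib.RingTheory.LocalRing.Module

/-!
# Minimal complexes of finite projective modules over a local ring

* `isZero_X_of_homology`: if `E^{c+1} = 0` and `H^c(E) = 0` then `E^c = 0`;
* `isZero_X_of_depth`: if `H^i(E) = 0` for `i < a` and `c + depth R < a` then `E^c = 0` (Auslander-Buchsbaum).
-/

set_option autoImplicit false

universe u

open CategoryTheory CategoryTheory.Limits IsLocalRing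

namespace K884.LocAB

open Groth.Agent.Dcoh.BddCx

variable {R : Type u} [CommRing R] [IsLocalRing R]

/-- Minimal complexes of finite projective modules over a local ring. -/
structure IsMin (E : CochainComplex (ModuleCat.{u} R) ℤ) : Prop where
  fin : ∀ i, Module.Finite R (E.X i)
  proj : ∀ i, Projective (E.X i)
  min : ∀ i j, LinearMap.range (E.d i j).hom ≤ maximalIdeal R • (⊤ : Submodule R (E.X j))

/-- Nakayama. -/
lemma isZero_of_top_le (M : ModuleCat.{u} R) [Module.Finite R M]
    (h : (⊤ : Submodule R M) ≤ maximalIdeal R • (⊤ : Submodule R M)) : IsZero M := by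
  rw [ModuleCat.isZero_iff_subsingleton]
  have h1 := Submodule.eq_bot_of_le_smul_of_le_jacobson_bot (maximalIdeal R) (⊤ : Submodule R M)
    Module.Finite.fg_top h (IsLocalRing.maximalIdeal_le_jacobson _)
  exact (Submodule.subsingleton_iff R).1 (subsingleton_of_bot_eq_top h1.symm)

variable {E : CochainComplex (ModuleCat.{u} R) ℤ} (hE : IsMin E)

include hE

/-- If the cokernel of `E^{i-1} ⟶ E^i` vanishes then `E^i = 0`. -/
lemma isZero_X_of_opcycles (i : ℤ) (h : IsZero (E.opcycles i)) : IsZero (E.X i) := by
  have := hE.fin i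
  apply isZero_of_top_le
  have h1 : Epi (E.d (i - 1) i) := by
    have hc := E.opcyclesIsCokernel (i - 1) i (by simp)
    exact Preadditive.epi_of_isZero_cokernel' _ hc h
  rw [ModuleCat.epi_iff_range_eq_top] at h1
  have h3 := hE.min (i - 1) i
  rwa [h1] at h3

/-- Nakayama: the top cohomology of a minimal complex does not vanish. -/
theorem isZero_X_of_homology (c : ℤ) (h1 : IsZero (E.X (c + 1))) (h2 : IsZero (E.homology c)) :
    IsZero (E.X c) := by
  apply isZero_X_of_opcycles hE
  exact h2.of_iso (E.isoHomologyι c (c + 1) (by simp) (h1.eq_of_tgt _ _)).symm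

lemma finite_opcycles (i : ℤ) : Module.Finite R (E.opcycles i) := by
  have := hE.fin i
  have h : Epi (E.pOpcycles i) := inferInstance
  rw [ModuleCat.epi_iff_surjective] at h
  exact Module.Finite.of_surjective (E.pOpcycles i).hom h

lemma fromOpcycles_mem (i j : ℤ) (x : E.opcycles i) :
    (E.fromOpcycles i j).hom x ∈ maximalIdeal R • (⊤ : Submodule R (E.X j)) := by
  have h : Epi (E.pOpcycles i) := inferInstance
  rw [ModuleCat.epi_iff_surjective] at h
  obtain ⟨y, rfl⟩ := h x
  apply hE.min i j
  refine ⟨y, ?_⟩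
  have := congrArg (fun f => f.hom y) (E.p_fromOpcycles i j)
  exact this.symm

lemma isZero_opcycles_of_split (i j : ℤ) (r : E.X j ⟶ E.opcycles i)
    (hr : E.fromOpcycles i j ≫ r = 𝟙 _) : IsZero (E.opcycles i) := by
  have := finite_opcycles hE i
  apply isZero_of_top_le
  intro x _
  have h1 : r.hom ((E.fromOpcycles i j).hom x) = x := congrArg (fun f => f.hom x) hr
  rw [← h1]
  have h2 := Submodule.mem_map_of_mem (f := r.hom) (fromOpcycles_mem hE i j x)
  rw [Submodule.map_smul''] at h2
  exact Submodule.smul_mono le_rfl le_top h2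

lemma isZero_of_isZero_opcycles (a : ℤ) (hex : ∀ i, i < a → IsZero (E.homology i)) (n : ℕ) :
    ∀ i, i ≤ a → IsZero (E.opcycles i) → i - n ≤ a → IsZero (E.X (i - n)) := by
  induction n with
  | zero =>
    intro i _ h0 _
    have := isZero_X_of_opcycles hE i h0
    simpa using this
  | succ n ih =>
    intro i hi h0 _
    have hX := isZero_X_of_opcycles hE i h0
    have hm := mono_fromOpcycles E (i - 1) i (by ring) (hex _ (by lia))
    have h1 : IsZero (E.opcycles (i - 1)) := IsZero.of_mono (E.fromOpcycles (i - 1) i) hX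
    have := ih (i - 1) (by lia) h1 (by lia)
    have e : i - 1 - (n : ℤ) = i - ((n + 1 : ℕ) : ℤ) := by push_cast; ring
    rwa [e] at this

lemma isZero_of_pd (e : ℕ) : ∀ a : ℤ, (∀ i, i < a → IsZero (E.homology i)) →
    HasProjectiveDimensionLE (E.opcycles a) e → ∀ c, c + e < a → IsZero (E.X c) := by
  induction e with
  | zero =>
    intro a hex hpd c hc
    have hp : Projective (E.opcycles a) := by
      rw [projective_iff_hasProjectiveDimensionLE_zero]
      exact hpd
    have hS := shortExact_opcycles E (a - 1) a (by ring) (hex _ (by lia))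
    let s : E.opcycles a ⟶ E.X a := Projective.factorThru (𝟙 _) (E.pOpcycles a)
    have hs : s ≫ E.pOpcycles a = 𝟙 _ := Projective.factorThru_comp _ _
    let σ := ShortComplex.Splitting.ofExactOfSection _ hS.exact s hs hS.mono_f
    have h0 := isZero_opcycles_of_split hE (a - 1) a σ.r σ.f_r
    obtain ⟨n, hn⟩ : ∃ n : ℕ, c = a - 1 - n := ⟨(a - 1 - c).toNat, by
      rw [Int.toNat_of_nonneg (by simp at hc; lia)]; ring⟩
    rw [hn]
    exact isZero_of_isZero_opcycles hE a hex n (a - 1) (by lia) h0 (by lia)
  | succ e ih =>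
    intro a hex hpd c hc
    have hS := shortExact_opcycles E (a - 1) a (by ring) (hex _ (by lia))
    have hp := hE.proj a
    have h1 : HasProjectiveDimensionLT (E.opcycles (a - 1)) (e + 1) :=
      hS.hasProjectiveDimensionLT_X₁ (e + 1) (by
        have : HasProjectiveDimensionLT (E.X a) 1 := inferInstance
        exact hasProjectiveDimensionLT_of_ge _ 1 (e + 1) (by lia)) hpd
    exact ih (a - 1) (fun i hi => hex i (by lia)) h1 c (by push_cast at hc; lia)

lemma pd_opcycles (lo : ℤ) (hlo : ∀ i, i < lo → IsZero (E.X i)) (n : ℕ) :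
    ∀ a : ℤ, a ≤ lo + n → (∀ i, i < a → IsZero (E.homology i)) →
      HasProjectiveDimensionLE (E.opcycles a) n := by
  induction n with
  | zero =>
    intro a ha hex
    have hS := shortExact_opcycles E (a - 1) a (by ring) (hex _ (by lia))
    have h0 : IsZero (E.opcycles (a - 1)) :=
      IsZero.of_epi (E.pOpcycles (a - 1)) (hlo _ (by simp at ha; lia))
    have hi : IsIso (E.pOpcycles a) := by
      have : Mono (E.pOpcycles a) := by
        have := hS.exact.mono_g (h0.eq_of_src _ _)
        exact this
      exact isIso_of_mono_of_epi _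
    have hp := hE.proj a
    have : Projective (E.opcycles a) := Projective.of_iso (asIso (E.pOpcycles a)) hp
    rw [← projective_iff_hasProjectiveDimensionLE_zero]
    exact this
  | succ n ih =>
    intro a ha hex
    have hS := shortExact_opcycles E (a - 1) a (by ring) (hex _ (by lia))
    have hp := hE.proj a
    have h1 := ih (a - 1) (by push_cast at ha; lia) (fun i hi => hex i (by lia))
    exact hS.hasProjectiveDimensionLT_X₃ (n + 1) h1 (by
      have : HasProjectiveDimensionLT (E.X a) 1 := inferInstance
      exact hasProjectiveDimensionLT_of_ge _ 1 (n + 1 + 1) (by lia))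

omit hE in
/-- Auslander-Buchsbaum bound. -/
lemma pd_le_depth [IsNoetherianRing R] (M : ModuleCat.{u} R) [Module.Finite R M] (n d : ℕ)
    (h : HasProjectiveDimensionLE M n) (hd : LocCoh.depth R R = d) :
    HasProjectiveDimensionLE M d := by
  by_cases h0 : IsZero M
  · have : HasProjectiveDimensionLT M 0 := (hasProjectiveDimensionLT_zero_iff_isZero (X := M)).2 h0
    exact hasProjectiveDimensionLT_of_ge _ 0 (d + 1) (by lia)
  · have hnt : Nontrivial M := by
      rw [← not_subsingleton_iff_nontrivial, ← ModuleCat.isZero_iff_subsingleton]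
      exact h0
    obtain ⟨e, he⟩ : ∃ e : ℕ, projectiveDimension M = e := by
      have h1 : projectiveDimension M ≤ (n : WithBot ℕ∞) := (projectiveDimension_le_iff _ _).2 h
      have h2 : projectiveDimension M ≠ ⊥ := by
        rw [Ne, projectiveDimension_eq_bot_iff]
        exact h0
      obtain ⟨x, hx⟩ := WithBot.ne_bot_iff_exists.1 h2
      rw [← hx] at h1
      have h3 : x ≤ (n : ℕ∞) := WithBot.coe_le_coe.1 h1
      obtain ⟨e, he⟩ := ENat.ne_top_iff_exists.1 (ne_top_of_le_ne_top (ENat.natCast_ne_top n) h3)
      exact ⟨e, by rw [← hx, ← he]; rfl⟩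
    have h4 := Groth.Agent.S0604.result R M e he
    rw [hd] at h4
    rw [← projectiveDimension_le_iff, he]
    have h5 : (e : ℕ∞) ≤ d := by
      rw [h4]
      exact le_self_add
    exact_mod_cast h5

/-- If `H^i(E) = 0` for `i < a` and `c + depth R < a`, then `E^c = 0`. -/
theorem isZero_X_of_depth [IsNoetherianRing R] (lo : ℤ) (hlo : ∀ i, i < lo → IsZero (E.X i))
    (a : ℤ) (hex : ∀ i, i < a → IsZero (E.homology i)) (d : ℕ) (hd : LocCoh.depth R R = d)
    (c : ℤ) (hc : c + d < a) : IsZero (E.X c) := by
  have := finite_opcycles hE a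
  have h1 := pd_opcycles hE lo hlo (a - lo).toNat a (by
    have := Int.self_le_toNat (a - lo)
    lia) hex
  exact isZero_of_pd hE d a hex (pd_le_depth _ _ d h1 hd) c hc

end K884.LocAB
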