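import Groth.Agent.FMK.K884.LocAB
import Groth.Agent.PerfB.Betti
import Groth.Agent.Krr.H500.StalkCx
import Groth.Agent.Dcoh.PerfFlat
import Groth.Agent.Dcoh.StalkRestrict

/-!
# Minimal models of perfect complexes over the local rings of a scheme

For `K` perfect on `Y` and a point `y` there is a bounded minimal complex `E` of finite free modules over `O_{Y,y}`
with `H^i(E) ≅ H^i(K)_y` and `E^i = 0` iff `H^i(K ⊗ κ(y)) = 0` (`exists_localModel`).
-/

set_option autoImplicit false

universe u

open CategoryTheory CategoryTheory.Limits AlgebraicGeometry IsLocalRing TensorProduct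

attribute [local instance] HasDerivedCategory.standard

namespace K884.Model

open Groth.Agent.Dcoh.StalkMod
  Groth.Agent.PerfB.MinModel Groth.Agent.PerfB.Betti Groth.Agent.Dcoh.StalkRestrict
  Groth.Agent.CycB.StalkExact Groth.Agent.Fdesc.PullbackStalk

section Min

variable {T U : Scheme.{u}} (φ : T ⟶ U) (t : T)

/-- If `φ^* f = 0` then the stalk of `f` at `φ t` has values in `𝔪 N`. -/
lemma stalkLin_mem_of_pullback_eq_zero {M N : U.Modules} (f : M ⟶ N)
    (hf : (Scheme.Modules.pullback φ).map f = 0) {n : ℕ}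
    (b : Module.Basis (Fin n) (U.presheaf.stalk (φ t)) (N.presheaf.stalk (φ t)))
    (m : M.presheaf.stalk (φ t)) :
    stalkLin f (φ t) m ∈ maximalIdeal (U.presheaf.stalk (φ t)) •
      (⊤ : Submodule (U.presheaf.stalk (φ t)) (N.presheaf.stalk (φ t))) := by
  let := stalkAlg φ t
  have h1 : canAdd φ N t (stalkLin f (φ t) m) = 0 := by
    refine (stalkMap_pullback_canAdd φ f t m).symm.trans ?_
    rw [hf]
    have h2 := stalkLin_zero (M := (Scheme.Modules.pullback φ).obj M)
      (N := (Scheme.Modules.pullback φ).obj N) t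
    exact LinearMap.congr_fun h2 (canAdd φ M t m)
  have h2 : (1 : T.presheaf.stalk t) ⊗ₜ[U.presheaf.stalk (φ t)] (stalkLin f (φ t) m) = 0 := by
    apply (stalkPullbackEquiv φ N t).injective
    rw [map_zero]
    have h3 := stalkPullbackEquiv_tmul φ N t 1 (stalkLin f (φ t) m)
    rw [one_smul] at h3
    exact h3.trans h1
  have h3 : ∀ i, b.repr (stalkLin f (φ t) m) i ∈ maximalIdeal (U.presheaf.stalk (φ t)) := by
    intro i
    have h4 := Module.Basis.baseChange_repr_tmul (S := T.presheaf.stalk t) b 1
      (stalkLin f (φ t) m) i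
    rw [h2, map_zero, Finsupp.zero_apply] at h4
    have h5 : (φ.stalkMap t).hom (b.repr (stalkLin f (φ t) m) i) = 0 := by
      have := h4.symm
      rw [Algebra.smul_def, mul_one] at this
      exact this
    rw [mem_maximalIdeal, mem_nonunits_iff]
    intro hu
    have h6 := hu.map (φ.stalkMap t).hom
    rw [h5] at h6
    exact not_isUnit_zero h6
  have h4 : stalkLin f (φ t) m = ∑ i, b.repr (stalkLin f (φ t) m) i • b i :=
    (b.sum_repr _).symm
  rw [h4]
  exact Submodule.sum_mem _ (fun i _ => Submodule.smul_mem_smul (h3 i) trivial)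

/-- Stalks of the differentials of a complex which is minimal at `u`. -/
lemma stalkLin_mem_of_minimalAt (u : U) {M : CochainComplex U.Modules ℤ} {n : ℤ → ℕ}
    (hM : TermsFree M n) (hmin : MinimalAt u M) (i : ℤ) (m : (M.X i).presheaf.stalk u) :
    stalkLin (M.d i (i + 1)) u m ∈ maximalIdeal (U.presheaf.stalk u) •
      (⊤ : Submodule (U.presheaf.stalk u) ((M.X (i + 1)).presheaf.stalk u)) := by
  let pt : Spec (U.residueField u) := Classical.arbitrary _
  have hpt : U.fromSpecResidueField u pt = u := Scheme.fromSpecResidueField_apply _ _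
  have key : ∀ v : U, U.fromSpecResidueField u pt = v → ∀ m : (M.X i).presheaf.stalk v,
      stalkLin (M.d i (i + 1)) v m ∈ maximalIdeal (U.presheaf.stalk v) •
      (⊤ : Submodule (U.presheaf.stalk v) ((M.X (i + 1)).presheaf.stalk v)) := by
    rintro v rfl m
    let e := (hM (i + 1)).some
    let b : Module.Basis (Fin (n (i + 1))) (U.presheaf.stalk (U.fromSpecResidueField u pt))
        ((M.X (i + 1)).presheaf.stalk (U.fromSpecResidueField u pt)) :=
      Module.Basis.ofEquivFun ((stalkLinEquiv e _).trans (Groth.Agent.Dcoh.FreeSec.stalkFree _ _).symm)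
    exact stalkLin_mem_of_pullback_eq_zero (U.fromSpecResidueField u) pt _ (hmin i) b m
  exact key u hpt m

end Min

section Transport

variable {U Y : Scheme.{u}} (j : U ⟶ Y) [IsOpenImmersion j] (u : U)

/-- Stalks at `u` of modules on the open subscheme `U`, as modules over `O_{Y,ju}`. -/
noncomputable def tr : U.Modules ⥤ ModuleCat.{u} (Y.presheaf.stalk (j u)) :=
  stalkMod u ⋙ ModuleCat.restrictScalars.{u} (j.stalkMap u).hom

instance : (tr j u).Additive := by
  unfold tr
  infer_instance

instance : PreservesFiniteLimits (tr j u) := by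
  unfold tr
  exact comp_preservesFiniteLimits _ _

instance : PreservesFiniteColimits (tr j u) := by
  unfold tr
  exact comp_preservesFiniteColimits _ _

/-- Stalks of restrictions. -/
lemma nonempty_trRestrict (M : Y.Modules) :
    Nonempty ((tr j u).obj (M.restrict j) ≅ (stalkMod (j u)).obj M) := by
  let A : ModuleCat.{u} (Y.presheaf.stalk (j u)) := (tr j u).obj (M.restrict j)
  let B : ModuleCat.{u} (Y.presheaf.stalk (j u)) := (stalkMod (j u)).obj M
  let e : A ≃ₗ[Y.presheaf.stalk (j u)] B :=
    { toFun := ρ j M u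
      invFun := (ρ j M u).symm
      map_add' := map_add (ρ j M u)
      map_smul' := fun r m => ρ_smul j M u r m
      left_inv := (ρ j M u).symm_apply_apply
      right_inv := (ρ j M u).apply_symm_apply }
  exact ⟨e.toModuleIso⟩

/-- Bases transport. -/
lemma nonempty_basis_tr {M : U.Modules} {n : ℕ} (e : M ≅ FlatMod.freeMod U n) :
    Nonempty (Module.Basis (Fin n) (Y.presheaf.stalk (j u)) ((tr j u).obj M)) := by
  let b : Module.Basis (Fin n) (U.presheaf.stalk u) (M.presheaf.stalk u) :=
    Module.Basis.ofEquivFun ((stalkLinEquiv e _).trans (Groth.Agent.Dcoh.FreeSec.stalkFree _ _).symm)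
  let N : ModuleCat.{u} (Y.presheaf.stalk (j u)) := (tr j u).obj M
  let e0 : M.presheaf.stalk u ≃+ N := AddEquiv.refl (M.presheaf.stalk u)
  have he : ∀ (r : U.presheaf.stalk u) (m : M.presheaf.stalk u),
      e0 (r • m) = (stalkEquiv j u).symm r • e0 m := fun r m => by
    change r • m = (j.stalkMap u).hom ((stalkEquiv j u).symm r) • m
    have h : (j.stalkMap u).hom ((stalkEquiv j u).symm r) = r :=
      (stalkEquiv j u).apply_symm_apply r
    rw [h]
  exact ⟨Groth.Agent.Dcoh.PerfFlat.basisOfSemilinear (stalkEquiv j u).symm e0 he b⟩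

/-- Membership in `𝔪 N` does not depend on the ring. -/
lemma mem_tr (M : U.Modules) (x : M.presheaf.stalk u)
    (hx : x ∈ maximalIdeal (U.presheaf.stalk u) •
      (⊤ : Submodule (U.presheaf.stalk u) (M.presheaf.stalk u))) :
    (show (tr j u).obj M from x) ∈ maximalIdeal (Y.presheaf.stalk (j u)) •
      (⊤ : Submodule (Y.presheaf.stalk (j u)) ((tr j u).obj M)) := by
  induction hx using Submodule.smul_induction_on' with
  | smul r hr m _ =>
    obtain ⟨r', rfl⟩ := (stalkEquiv j u).surjective r
    have hr' : r' ∈ maximalIdeal (Y.presheaf.stalk (j u)) := by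
      rw [mem_maximalIdeal, mem_nonunits_iff] at hr ⊢
      exact fun h => hr (h.map (stalkEquiv j u))
    exact Submodule.smul_mem_smul (M := (tr j u).obj M) hr' trivial
  | add x _ y _ h1 h2 => exact Submodule.add_mem _ h1 h2

end Transport

open Groth.Agent.Dcoh.MapDer

/-- Homology of the image of a complex under an exact functor. -/
noncomputable def mapHomology {C D : Type*} [Category* C] [Category* D] [Abelian C] [Abelian D]
    (F : C ⥤ D) [F.Additive] [PreservesFiniteLimits F] [PreservesFiniteColimits F]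
    (M : CochainComplex C ℤ) (i : ℤ) :
    ((F.mapHomologicalComplex (ComplexShape.up ℤ)).obj M).homology i ≅ F.obj (M.homology i) :=
  (M.sc i).mapHomologyIso F

/-- The cohomology sheaves of a restriction. -/
noncomputable def restrictHD {U Y : Scheme.{u}} (j : U ⟶ Y) [IsOpenImmersion j] (K : DCoh.D Y)
    (i : ℤ) : DCoh.HD ((DCoh.restrictD j).obj K) i ≅ (DCoh.HD K i).restrict j :=
  (homologyMapDer (Scheme.Modules.restrictFunctor j) i).app K

/-- Local models of perfect complexes. -/
theorem exists_localModel {Y : Scheme.{u}} (K : DCoh.D Y) (hK : DCoh.IsPerfect K) (y : Y) :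
    ∃ (E : CochainComplex (ModuleCat.{u} (Y.presheaf.stalk y)) ℤ) (n : ℤ → ℕ) (a b : ℤ),
      LocAB.IsMin E ∧ (∀ i, i < a ∨ b < i → n i = 0) ∧ (∀ i, n i = 0 ↔ IsZero (E.X i)) ∧
      (∀ i, Nonempty (E.homology i ≅ (stalkMod y).obj (DCoh.HD K i))) ∧
      (∀ [DCoh.HasLpull (Y.fromSpecResidueField y)] (i : ℤ),
        n i = 0 ↔ IsZero (DCoh.HD ((DCoh.Lpull (Y.fromSpecResidueField y)).obj K) i)) := by
  obtain ⟨U, j, hj, u₀, rfl, M, n, a, b, α, hM, hn, hmin⟩ := exists_model_perf K hK y
  have hbas := fun i => nonempty_basis_tr j u₀ (hM i).some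
  refine ⟨((tr j u₀).mapHomologicalComplex (ComplexShape.up ℤ)).obj M, n, a, b,
    ⟨fun i => ?_, fun i => ?_, fun i k => ?_⟩, hn, fun i => ?_, fun i => ?_, fun {_} i => ?_⟩
  · exact Module.Finite.of_basis (hbas i).some
  · let N : ModuleCat.{u} (Y.presheaf.stalk (j u₀)) := (tr j u₀).obj (M.X i)
    have : Module.Free (Y.presheaf.stalk (j u₀)) N := Module.Free.of_basis (hbas i).some
    have h2 : Module.Projective (Y.presheaf.stalk (j u₀)) N := inferInstance
    exact (IsProjective.iff_projective (R := Y.presheaf.stalk (j u₀)) N).1 h2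
  · by_cases hik : i + 1 = k
    · subst hik
      rintro _ ⟨m, rfl⟩
      exact mem_tr j u₀ _ _ (stalkLin_mem_of_minimalAt u₀ hM hmin i m)
    · have h0 : (((tr j u₀).mapHomologicalComplex (ComplexShape.up ℤ)).obj M).d i k = 0 :=
        HomologicalComplex.shape _ _ _ hik
      rw [h0]
      rintro _ ⟨m, rfl⟩
      exact Submodule.zero_mem _
  · change _ ↔ IsZero ((tr j u₀).obj (M.X i))
    obtain ⟨b'⟩ := hbas i
    rw [ModuleCat.isZero_iff_subsingleton]
    constructor
    · intro h
      rw [h] at b'
      exact b'.equivFun.toEquiv.subsingleton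
    · intro h
      have h1 : Subsingleton (Fin (n i) → Y.presheaf.stalk (j u₀)) :=
        b'.equivFun.symm.toEquiv.subsingleton
      by_contra h2
      obtain ⟨m, hm⟩ := Nat.exists_eq_succ_of_ne_zero h2
      rw [hm] at h1
      have := congrFun (h1.elim (fun _ => (0 : Y.presheaf.stalk (j u₀))) (fun _ => 1)) 0
      exact zero_ne_one this
  · refine (nonempty_trRestrict j u₀ (DCoh.HD K i)).map fun e => ?_
    exact mapHomology (tr j u₀) M i ≪≫ (tr j u₀).mapIso
      (((DerivedCategory.homologyFunctorFactors _ i).app M).symm ≪≫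
        (DerivedCategory.homologyFunctor _ i).mapIso α ≪≫ restrictHD j K i) ≪≫ e
  · have hx : j u₀ ∈ Set.range j := ⟨u₀, rfl⟩
    have hb := betti_eq (j u₀) j hM hn K (i - 1) α.hom (fun _ _ => inferInstance) inferInstance i
      (by lia) u₀ rfl hmin
    constructor
    · intro h
      have hL := Groth.Agent.Dcoh.DerPull.hasLpull (lift (j u₀) j hx)
      obtain ⟨e⟩ := lpullLift (j u₀) j hx K
      have e1 : (DerivedCategory.homologyFunctor _ i).obj
          ((DCoh.Lpull ((Y.fromSpecResidueField (j u₀)))).obj K) ≅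
          (fib (j u₀) j M hx).homology i :=
        (DerivedCategory.homologyFunctor _ i).mapIso (e ≪≫
          (DCoh.Lpull (lift (j u₀) j hx)).mapIso α.symm ≪≫ lpullFib (j u₀) j hM hn hx) ≪≫
        (DerivedCategory.homologyFunctorFactors _ i).app (fib (j u₀) j M hx)
      refine IsZero.of_iso ?_ e1
      have h2 : IsZero ((fib (j u₀) j M hx).X i) := by
        have h3 := (termsFree_fib (j u₀) j hM hx i).some
        rw [h] at h3
        exact (isZero_freeMod_zero _).of_iso h3
      rw [← HomologicalComplex.exactAt_iff_isZero_homology]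
      exact ShortComplex.exact_of_isZero_X₂ _ h2
    · intro h
      rw [← hb]
      have h2 : IsZero ((Groth.Agent.PerfB.FibreDim.Γf (Spec (Y.residueField (j u₀)))).obj
          (DCoh.HD ((DCoh.Lpull ((Y.fromSpecResidueField (j u₀)))).obj K) i)) :=
        Functor.map_isZero _ h
      rw [ModuleCat.isZero_iff_subsingleton] at h2
      have h3 : Nontrivial (Coh.Γtop (Spec (Y.residueField (j u₀)))) :=
        (Groth.Agent.PerfB.FibreDim.isField_Γtop_residueField Y (j u₀)).nontrivial
      exact @Module.finrank_zero_of_subsingleton _ _ _ _ _ _ h2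

end K884.Model
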