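import Groth.Agent.CohtopA.NoethVanish
import Groth.Agent.CurvesB.MVOne

/-!
# Grothendieck vanishing for sheaves with small support

`subsingleton_H`: on a Noetherian space `X` of dimension `≤ d`, if every local section of `F` is supported on
irreducible closed subsets of codimension `≥ c`, then `H^p(X, F) = 0` for `p + c > d`.
-/

set_option autoImplicit false
universe u

open CategoryTheory Abelian Limits Opposite TopologicalSpace

namespace K884.NoethSupp

open Groth.Agent.CohtopA.FreeAb Groth.Agent.CohtopA.NoethPts Groth.Agent.CohtopA.MVClass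
  Groth.Agent.CohtopA.NoethVanish Groth.Agent.CurvesB.MVOne

variable {X : TopCat.{u}}

theorem res_sup_eq_zero (F : CohTop.Ab X) {U V W : Opens X} (hU : U ≤ W) (hV : V ≤ W)
    (s : CohTop.HU F 0 W) (h1 : CohTop.res F 0 hU s = 0) (h2 : CohTop.res F 0 hV s = 0) :
    CohTop.res F 0 (sup_le hU hV) s = 0 := by
  apply (secE F _).injective
  rw [map_zero]
  have h3 := congrArg (secE F U) h1
  have h4 := congrArg (secE F V) h2
  rw [map_zero, secE_res] at h3 h4
  refine TopCat.Sheaf.eq_of_locally_eq₂ F (homOfLE le_sup_left) (homOfLE le_sup_right) le_rfl _ _ ?_ ?_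
  · rw [map_zero, secE_res, ← h3]
    exact (ConcreteCategory.congr_hom (F.obj.map_comp (homOfLE (sup_le hU hV)).op
      (homOfLE (le_sup_left : U ≤ U ⊔ V)).op) (secE F W s)).symm
  · rw [map_zero, secE_res, ← h4]
    exact (ConcreteCategory.congr_hom (F.obj.map_comp (homOfLE (sup_le hU hV)).op
      (homOfLE (le_sup_right : V ≤ U ⊔ V)).op) (secE F W s)).symm

/-- The section `s` does not vanish at the generic point of `Z`. -/
def NonzeroAt (F : CohTop.Ab X) (Z : IrreducibleCloseds X) {U : Opens X} (s : CohTop.HU F 0 U) : Prop :=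
  ∀ (V : Opens X) (h : V ≤ U), ((Z : Set X) ∩ V).Nonempty → CohTop.res F 0 h s ≠ 0

/-- The chains of points of `loc Z U` satisfying `Q` are shorter than those of `W` by one. -/
theorem length_lt_of_loc' {W : Set (Opens X)} {Q : IrreducibleCloseds X → Prop} {n : ℕ}
    (hn : ∀ p : LTSeries {Z // Z ∈ pts W ∧ Q Z}, p.length < n + 1)
    {Z : IrreducibleCloseds X} (hZ : Z ∈ pts W) (hQZ : Q Z) {U : Opens X}
    (hZU : (Z : Set X) ⊆ (U : Set X)ᶜ)
    (p : LTSeries {Z' // Z' ∈ pts (loc (Z : Set X) U) ∧ Q Z'}) : p.length < n := by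
  have hmem : ∀ Z' ∈ pts (loc (Z : Set X) U), Z' ∈ pts W := by
    intro Z' hZ' T hT
    obtain ⟨x, hx1, hx2⟩ := hZ T hT
    exact ⟨x, (lt_of_mem_pts_loc hZU hZ').le hx1, hx2⟩
  let f : {Z' // Z' ∈ pts (loc (Z : Set X) U) ∧ Q Z'} → {Z // Z ∈ pts W ∧ Q Z} :=
    fun z => ⟨z.1, hmem z.1 z.2.1, z.2.2⟩
  have hf : StrictMono f := fun a b h => h
  let q : LTSeries {Z // Z ∈ pts W ∧ Q Z} :=
    (p.map f hf).cons ⟨Z, hZ, hQZ⟩ (lt_of_mem_pts_loc hZU (p.head).2.1)
  have hq := hn q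
  have : q.length = p.length + 1 := by
    simp [q]
  omega

theorem exists_res_eq_zero' [NoetherianSpace X] (F : CohTop.Ab X) (Q : IrreducibleCloseds X → Prop)
    (hQ : ∀ Z Z' : IrreducibleCloseds X, Z ≤ Z' → Q Z' → Q Z)
    (hF : ∀ (Z : IrreducibleCloseds X) (U : Opens X) (s : CohTop.HU F 0 U),
      ((Z : Set X) ∩ U).Nonempty → NonzeroAt F Z s → Q Z) (q : ℕ) :
    ∀ (n : ℕ) (_ : n ≤ q) (W : Set (Opens X)) (_ : IsDir W)
      (_ : ∀ p : LTSeries {Z // Z ∈ pts W ∧ Q Z}, p.length < n)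
      (W₀ : Opens X) (_ : W₀ ∈ W) (ξ : CohTop.HU F q W₀),
      ∃ (T : Opens X) (_ : T ∈ W) (h : T ≤ W₀), CohTop.res F q h ξ = 0 := by
  induction q with
  | zero =>
    intro n hn0 W hW hn W₀ hW₀ ξ
    obtain rfl : n = 0 := by omega
    obtain ⟨U, ⟨hU1, hU2⟩, hU3⟩ := WellFounded.has_min (wellFounded_gt (α := Opens X))
      {U : Opens X | ∃ (h : U ≤ W₀), CohTop.res F 0 h ξ = 0}
      ⟨⊥, bot_le, @Subsingleton.elim _ (subsingleton_HU_bot F 0) _ _⟩
    by_cases hcase : ∃ T ∈ W, T ≤ U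
    · obtain ⟨T, hT, hTU⟩ := hcase
      exact ⟨T, hT, hTU.trans hU1, res_eq_zero_of_le' F 0 _ hTU _ ξ hU2⟩
    · exfalso
      push Not at hcase
      obtain ⟨Z, hZ, hZU⟩ := exists_pt hW ⟨W₀, hW₀⟩ ⟨(U : Set X)ᶜ, U.isOpen.isClosed_compl⟩
        (by
          intro T hT
          obtain ⟨x, hx1, hx2⟩ := Set.not_subset.1 (hcase T hT)
          exact ⟨x, hx2, hx1⟩)
      have hZU' : (Z : Set X) ⊆ (U : Set X)ᶜ := hZU
      have hQZ : Q Z := by
        refine hF Z W₀ ξ (hZ W₀ hW₀) fun V hV hne h0 => ?_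
        have h4 : U ⊔ V ∈ {U : Opens X | ∃ (h : U ≤ W₀), CohTop.res F 0 h ξ = 0} :=
          ⟨sup_le hU1 hV, res_sup_eq_zero F hU1 hV ξ hU2 h0⟩
        have h5 : U < U ⊔ V := by
          refine lt_of_le_of_ne le_sup_left ?_
          intro h
          obtain ⟨y, hy1, hy2⟩ := hne
          apply hZU' hy1
          have : V ≤ U := by
            rw [h]
            exact le_sup_right
          exact this hy2
        exact hU3 _ h4 h5
      exact absurd (hn (RelSeries.singleton _ ⟨Z, hZ, hQZ⟩)) (by simp)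
  | succ q ih =>
    intro n hnq W hW hn W₀ hW₀ ξ
    obtain ⟨U, ⟨hU1, W₁, hW₁, hW₁0, hU2⟩, hU3⟩ := WellFounded.has_min (wellFounded_gt (α := Opens X))
      {U : Opens X | U ≤ W₀ ∧ ∃ (T : Opens X) (_ : T ∈ W) (h : T ≤ W₀),
        CohTop.res F (q + 1) ((inf_le_right : U ⊓ T ≤ T).trans h) ξ = 0}
      ⟨⊥, bot_le, W₀, hW₀, le_rfl, res_eq_zero_of_le' F (q + 1) (bot_le : ⊥ ≤ W₀)
        (by rw [bot_inf_eq]) _ ξ (@Subsingleton.elim _ (subsingleton_HU_bot F (q + 1)) _ _)⟩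
    by_cases hcase : ∃ T ∈ W, T ≤ U
    · obtain ⟨T, hT, hTU⟩ := hcase
      obtain ⟨c, hc, hc1, hc2⟩ := hW.inf T hT W₁ hW₁
      exact ⟨c, hc, hc2.trans hW₁0, res_eq_zero_of_le' F (q + 1) _
        (le_inf (hc1.trans hTU) hc2) _ ξ hU2⟩
    · exfalso
      push Not at hcase
      obtain ⟨Z, hZ, hZU⟩ := exists_pt hW ⟨W₀, hW₀⟩ ⟨(U : Set X)ᶜ, U.isOpen.isClosed_compl⟩
        (by
          intro T hT
          obtain ⟨x, hx1, hx2⟩ := Set.not_subset.1 (hcase T hT)
          exact ⟨x, hx2, hx1⟩)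
      have hZU' : (Z : Set X) ⊆ (U : Set X)ᶜ := hZU
      obtain ⟨z, hz1, hz2⟩ := hZ W₁ hW₁
      obtain ⟨V, hV, hzV, hV0⟩ := exists_open_res_eq_zero F q W₁
        (CohTop.res F (q + 1) hW₁0 ξ) z hz2
      rw [res_res] at hV0
      -- the class on `(U ⊓ W₁) ⊔ V`
      have hsup : (U ⊓ W₁) ⊔ V ≤ W₀ := sup_le (inf_le_right.trans hW₁0) (hV.trans hW₁0)
      obtain ⟨η, hη⟩ := exists_mv_class F (U ⊓ W₁) V q (CohTop.res F (q + 1) hsup ξ)
        (by rw [res_res]; exact hU2) (by rw [res_res]; exact hV0)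
      -- apply the induction hypothesis
      have hmem : (U ⊓ W₁) ⊓ V ∈ loc (Z : Set X) U :=
        ⟨V, ⟨z, hz1, hzV⟩, by rw [inf_assoc, inf_eq_right.2 hV]⟩
      obtain ⟨m, hmq, hm⟩ : ∃ m ≤ q, ∀ p : LTSeries {Z' // Z' ∈ pts (loc (Z : Set X) U) ∧ Q Z'},
          p.length < m := by
        by_cases hQZ : Q Z
        · obtain ⟨m, rfl⟩ : ∃ m, n = m + 1 := by
            have := hn (RelSeries.singleton _ ⟨Z, hZ, hQZ⟩)
            exact ⟨n - 1, by omega⟩
          exact ⟨m, by omega, length_lt_of_loc' hn hZ hQZ hZU'⟩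
        · refine ⟨0, by omega, fun p => ?_⟩
          exact absurd (hQ _ _ (lt_of_mem_pts_loc hZU' (p.head).2.1).le (p.head).2.2) hQZ
      obtain ⟨T, ⟨V', hV', rfl⟩, hT1, hT2⟩ := ih m hmq (loc (Z : Set X) U) (isDir_loc Z U)
        hm _ hmem η
      have hZV : ((Z : Set X) ∩ (V' ⊓ V : Opens X)).Nonempty :=
        Z.isIrreducible.2 V' V V'.isOpen V.isOpen hV' ⟨z, hz1, hzV⟩
      have h3 := hη (V' ⊓ V) inf_le_right (res_eq_zero_of_le' F q hT1
        (le_inf (inf_le_left.trans inf_le_left) (inf_le_right.trans inf_le_left)) _ η hT2)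
      rw [res_res] at h3
      have h4 : U ⊔ (V' ⊓ V) ∈ {U : Opens X | U ≤ W₀ ∧ ∃ (T : Opens X) (_ : T ∈ W) (h : T ≤ W₀),
          CohTop.res F (q + 1) ((inf_le_right : U ⊓ T ≤ T).trans h) ξ = 0} := by
        refine ⟨sup_le hU1 (inf_le_right.trans (hV.trans hW₁0)), W₁, hW₁, hW₁0,
          res_eq_zero_of_le' F (q + 1) _ ?_ _ ξ h3⟩
        rw [inf_sup_right]
        exact sup_le_sup_left inf_le_left _
      have h5 : U < U ⊔ (V' ⊓ V) := by
        refine lt_of_le_of_ne le_sup_left ?_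
        intro h
        obtain ⟨y, hy1, hy2⟩ := hZV
        apply hZU' hy1
        have : (V' ⊓ V : Opens X) ≤ U := by
          rw [h]
          exact le_sup_right
        exact this hy2
      exact hU3 _ h4 h5

/-- Grothendieck vanishing for sheaves whose sections are supported in codimension `≥ c`. -/
theorem subsingleton_HU [NoetherianSpace X] (d c : ℕ)
    (hd : topologicalKrullDim X ≤ d) (F : CohTop.Ab X)
    (hF : ∀ (Z : IrreducibleCloseds X) (U : Opens X) (s : CohTop.HU F 0 U),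
      ((Z : Set X) ∩ U).Nonempty → NonzeroAt F Z s → (c : ℕ∞) ≤ Order.coheight Z)
    (p : ℕ) (hp : d < p + c) (U : Opens X) :
    Subsingleton (CohTop.HU F p U) := by
  refine subsingleton_of_forall_eq 0 (fun ξ => ?_)
  obtain ⟨T, hT, h, h0⟩ := exists_res_eq_zero' F (fun Z => (c : ℕ∞) ≤ Order.coheight Z)
    (fun Z Z' h h' => h'.trans (Order.coheight_anti h)) hF p (d + 1 - c) (by omega) {U}
    ⟨fun a ha b hb => ⟨U, rfl, by rw [ha], by rw [hb]⟩⟩ (by
      intro s
      obtain ⟨t, ht1, ht2⟩ := Order.exists_series_of_le_coheight _ (s.last).2.2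
      let s' : LTSeries (IrreducibleCloseds X) := s.map Subtype.val (fun a b h => h)
      have hst : s'.last = t.head := ht1.symm
      have h1 := Order.LTSeries.length_le_krullDim (s'.smash t hst)
      have h2 : ((s.length + t.length : ℕ) : WithBot ℕ∞) ≤ (d : WithBot ℕ∞) := h1.trans hd
      have h5 : s.length + t.length ≤ d := by exact_mod_cast h2
      omega) U rfl ξ
  obtain rfl : T = U := hT
  have h2 := ConcreteCategory.congr_hom ((Sheaf.cohomologyPresheaf.{u} F p).map_id (op T)) ξ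
  exact h2.symm.trans h0

end K884.NoethSupp
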