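import Groth.Agent.FMK.K884.NoethSupp
import Groth.Agent.FMK.K884.GradeVan
import Groth.Agent.FMK.K884.Exch
import Groth.Agent.FMK.K884.Gv
import Groth.Agent.Fdesc.AssFlat

/-!
# Hypercohomology vanishing under codimension conditions

`isZero_RΓ_of_codim`: `Y` Noetherian of dimension `≤ g`, `D` with `H^i(D) = 0` for `i < 0` and `codim Supp H^i(D) ≥ i - k'`;
then `H^i(Y, D) = 0` for `i < 0` and `i > g + k'`.
-/

set_option autoImplicit false

universe u v w

open CategoryTheory CategoryTheory.Limits MonoidalCategory AlgebraicGeometry Opposite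

attribute [local instance] HasDerivedCategory.standard

open scoped Groth.Agent.Dcoh.MonCat Groth.Agent.Dcoh.ModD

namespace K884.SuppVan

section Abs

open Pretriangulated DerivedCategory

variable {A : Type u} [Category.{v} A] [Abelian A] [HasDerivedCategory.{w} A]

/-- Objects without maps from `S`. -/
def NoMap (S : DerivedCategory A) : ObjectProperty (DerivedCategory A) := fun X => ∀ φ : S ⟶ X, φ = 0

instance (S : DerivedCategory A) : (NoMap S).IsClosedUnderIsomorphisms where
  of_iso e h φ := by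
    have := h (φ ≫ e.inv)
    rwa [← cancel_mono e.inv, zero_comp]

instance (S : DerivedCategory A) : (NoMap S).ContainsZero where
  exists_zero := by
    obtain ⟨Z, hZ⟩ := HasZeroObject.zero (C := DerivedCategory A)
    exact ⟨Z, hZ, fun φ => hZ.eq_of_tgt _ _⟩

instance (S : DerivedCategory A) : (NoMap S).IsTriangulatedClosed₂ :=
  .mk' (fun T hT h₁ h₃ f => by
    obtain ⟨g, rfl⟩ := Pretriangulated.Triangle.coyoneda_exact₂ T hT f (h₃ _)
    rw [h₁ g, zero_comp])

/-- A bounded object receives no maps from `S` if its cohomology objects receive none. -/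
theorem hom_eq_zero_of_single' (K S : DerivedCategory A) (a b : ℤ) [K.IsGE a] [hb : K.IsLE b]
    (h : ∀ (s : ℤ) (φ : S ⟶ (singleFunctor A s).obj ((homologyFunctor A s).obj K)), φ = 0)
    (φ : S ⟶ K) : φ = 0 := by
  have h1 : NoMap S K := by
    refine Groth.Agent.S0973.devissage (NoMap S) b (b + 1 - a).toNat K ?_ hb h
    exact TStructure.t.isGE_of_ge K _ a (by have := Int.self_le_toNat (b + 1 - a); lia)
  exact h1 φ

end Abs

open Groth.Agent.Dcoh Groth.Agent.Cohder.RelPCMon Groth.Agent.PerfA.ExtZero Groth.Agent.PerfA.Hyp1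
  Groth.Agent.PerfB.TensD Groth.Agent.CohtopB Groth.Agent.PerfB.SecGamma TopologicalSpace

variable {Y : Scheme.{u}}

/-- The codimension of an irreducible closed subset of a scheme. -/
lemma coheight_eq (Z : IrreducibleCloseds Y) :
    ((Order.coheight Z : ℕ∞) : WithBot ℕ∞) = ringKrullDim (Y.presheaf.stalk Z.2.genericPoint) := by
  rw [ringKrullDim_stalk_eq_coheight]
  exact congrArg _ (Order.coheight_orderIso (irreducibleSetEquivPoints (α := Y)) Z).symm

lemma genericPoint_mem (Z : IrreducibleCloseds Y) (V : Y.Opens) (h : ((Z : Set Y) ∩ V).Nonempty) :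
    Z.2.genericPoint ∈ V :=
  ((Z.2.isGenericPoint_genericPoint Z.3).mem_open_set_iff V.isOpen).2 h

open Groth.Agent.CurvesB.MVOne in
/-- A section not vanishing at the generic point of `Z`. -/
lemma mem_support_of_nonzeroAt (M : Y.Modules) (Z : IrreducibleCloseds Y) (V : Y.Opens)
    (s : CohTop.HU (X := Y.toTopCat) (Coh.toAb M) 0 V) (hV : ((Z : Set Y) ∩ V).Nonempty)
    (hs : NoethSupp.NonzeroAt (X := Y.toTopCat) (Coh.toAb M) Z s) :
    Z.2.genericPoint ∈ CohB1.support M := by
  have hη : Z.2.genericPoint ∈ V := genericPoint_mem Z V hV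
  intro hsub
  let t : M.presheaf.obj (op V) := secE (X := Y.toTopCat) (Coh.toAb M) V s
  have h1 : M.presheaf.germ V _ hη t = M.presheaf.germ V _ hη 0 := Subsingleton.elim _ _
  obtain ⟨W, hW, i1, i2, h2⟩ := M.presheaf.germ_eq _ hη hη _ _ h1
  refine hs W i1.le ⟨_, (Z.2.isGenericPoint_genericPoint Z.3).mem, hW⟩ ?_
  apply (secE (X := Y.toTopCat) (Coh.toAb M) W).injective
  rw [map_zero, secE_res]
  rw [map_zero] at h2
  exact h2

/-- Grothendieck vanishing for a module with small support. -/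
theorem subsingleton_HU [IsNoetherian Y] (M : Y.Modules) (g c : ℕ)
    (hg : topologicalKrullDim ↥Y ≤ (g : WithBot ℕ∞))
    (hM : ∀ y ∈ CohB1.support M, (c : WithBot ℕ∞) ≤ ringKrullDim (Y.presheaf.stalk y))
    (p : ℕ) (hp : g < p + c) (U : Y.Opens) :
    Subsingleton (CohTop.HU (X := Y.toTopCat) (Coh.toAb M) p U) := by
  have : TopologicalSpace.NoetherianSpace Y.toTopCat := inferInstanceAs (NoetherianSpace Y)
  refine NoethSupp.subsingleton_HU (X := Y.toTopCat) g c hg (Coh.toAb M) ?_ p hp U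
  intro Z V s hV hs
  have h1 := hM _ (mem_support_of_nonzeroAt M Z V s hV hs)
  rw [← coheight_eq] at h1
  exact_mod_cast h1

/-- Maps from `O[-i]` vanish under codimension conditions. -/
theorem hom_P_eq_zero [IsNoetherian Y] (D : DCoh.D Y) (g k' : ℕ)
    (hg : topologicalKrullDim ↥Y ≤ (g : WithBot ℕ∞))
    (h0 : ∀ i : ℤ, i < 0 → IsZero (DCoh.HD D i))
    (h1 : ∀ (i : ℕ) (y : ↥Y), y ∈ CohB1.support (DCoh.HD D (i : ℤ)) →
      ((i - k' : ℕ) : WithBot ℕ∞) ≤ ringKrullDim ↑(Y.presheaf.stalk y))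
    (i : ℤ) (hi : i < 0 ∨ (g : ℤ) + k' < i) (φ : P i (⊤ : Y.Opens) ⟶ D) : φ = 0 := by
  have hge : D.IsGE 0 := by rw [DerivedCategory.isGE_iff]; exact h0
  have hle : D.IsLE ((g : ℤ) + k') := by
    rw [DerivedCategory.isLE_iff]
    intro s hs
    obtain ⟨n, rfl⟩ := Int.eq_ofNat_of_zero_le (show 0 ≤ s by lia)
    refine Groth.Agent.Dcoh.StalkMod.isZero_of_subsingleton _ fun y => ?_
    by_contra hy
    have h2 := h1 n y hy
    rw [ringKrullDim_stalk_eq_coheight] at h2
    have h3 : ((Order.coheight y : ℕ∞) : WithBot ℕ∞) ≤ topologicalKrullDim ↥Y := by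
      rw [← Order.coheight_orderIso (irreducibleSetEquivPoints (α := Y)).symm y]
      exact Order.coheight_le_krullDim _
    have h4 : ((n - k' : ℕ) : WithBot ℕ∞) ≤ (g : WithBot ℕ∞) := h2.trans (h3.trans hg)
    have h5 : n - k' ≤ g := by exact_mod_cast h4
    lia
  rcases hi with hi | hi
  · exact DerivedCategory.TStructure.t.zero_of_isLE_of_isGE φ i 0 hi inferInstance inferInstance
  · have := HasExt.standard Y.Modules
    refine hom_eq_zero_of_single' D (P i (⊤ : Y.Opens)) 0 ((g : ℤ) + k') (fun s ψ => ?_) φ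
    by_cases hs0 : s < 0
    · exact (Functor.map_isZero (DerivedCategory.singleFunctor Y.Modules s) (h0 s hs0)).eq_of_tgt _ _
    · obtain ⟨n, rfl⟩ := Int.eq_ofNat_of_zero_le (show 0 ≤ s by lia)
      by_cases hsi : (n : ℤ) ≤ i
      · obtain ⟨m, hm⟩ := Int.le.dest hsi
        refine GradeVan.hom_single_eq_zero (OU (⊤ : Y.Opens)) (DCoh.HD D n) m (fun x => ?_) i n hm ψ
        have h2 := subsingleton_HU (DCoh.HD D n) g (n - k') hg (h1 n) m (by lia) ⊤
        exact (Groth.Agent.PerfA.AffVan.extEquiv ⊤ (DCoh.HD D n) m).injective.subsingleton.elim _ _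
      · exact DerivedCategory.TStructure.t.zero_of_isLE_of_isGE ψ i n (by lia) inferInstance
          inferInstance

lemma support_tensor_subset (M N : Y.Modules) :
    CohB1.support (CohB1.tensorMod M N) ⊆ CohB1.support M := by
  intro y hy hsub
  refine hy ?_
  exact (Groth.Agent.Fdesc.AssFlat.tensorModStalk M N y).toEquiv.subsingleton

/-- Hypercohomology vanishing, for a twist by a finite locally free module. -/
theorem isZero_RΓ_tensor [IsNoetherian Y] [DCoh.HasRΓ Y] (K : DCoh.D Y) (N : Y.Modules)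
    (hN : FlatMod.IsFinLocFree N) (g k' : ℕ)
    (hg : topologicalKrullDim ↥Y ≤ (g : WithBot ℕ∞))
    (h0 : ∀ i : ℤ, i < 0 → IsZero (DCoh.HD K i))
    (h1 : ∀ (i : ℕ) (y : ↥Y), y ∈ CohB1.support (DCoh.HD K (i : ℤ)) →
      ((i - k' : ℕ) : WithBot ℕ∞) ≤ ringKrullDim ↑(Y.presheaf.stalk y))
    (i : ℤ) (hi : i < 0 ∨ (g : ℤ) + k' < i) :
    IsZero ((DerivedCategory.homologyFunctor AddCommGrpCat.{u} i).obj
      ((DCoh.RΓ Y).obj (K ⊗ DCoh.inD Y N))) := by
  have := Groth.Agent.PerfB.TensInv.preservesFiniteLimits_of_isFinLocFree hN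
  obtain ⟨e⟩ := SerreLem.nonempty_tensD N K
  refine IsZero.of_iso ?_ ((DerivedCategory.homologyFunctor AddCommGrpCat.{u} i).mapIso
    ((DCoh.RΓ Y).mapIso e))
  rw [HypG.isZero_RΓ_iff]
  refine hom_P_eq_zero ((tensD N).obj K) g k' hg (fun j hj => ?_) (fun j y hy => ?_) i hi
  · exact ((DCoh.tensorRightMod N).map_isZero (h0 j hj)).of_iso (HDtens N K j)
  · refine h1 j y (support_tensor_subset _ N ?_)
    exact (Gv.mem_support_iff_of_iso (HDtens N K j) y).1 hy

end K884.SuppVan
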